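import Mathlib
import Groth.Agent.InjHull.Matlis
import Groth.Agent.InjHull.Basic
import Groth.Prelude.Def_CAlg

/-!
Modules over a local ring detected by their Matlis duals.
-/

set_option autoImplicit false

namespace Groth.Agent.CanonDual

universe u

open IsLocalRing

variable {R : Type u} [CommRing R] [IsLocalRing R] {E : Type u} [AddCommGroup E] [Module R E]
  {f : ResidueField R →ₗ[R] E} (hf : InjHull.IsInjectiveHull f)

include hf in
theorem eq_zero_of_forall_dual {M : Type u} [AddCommGroup M] [Module R M] (x : M) (h : ∀ g : M →ₗ[R] E, g x = 0) :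
    x = 0 := by
  by_contra hx
  obtain ⟨g, hg⟩ := InjHull.exists_dual_apply_ne_zero (m := maximalIdeal R) hf (x := x) fun a ha => by
    by_contra ham
    exact hx ((IsLocalRing.notMem_maximalIdeal.1 ham).smul_eq_zero.1 ha)
  exact hg (h g)

include hf in
theorem injective_of_dual {M N : Type u} [AddCommGroup M] [Module R M] [AddCommGroup N] [Module R N] (φ : M →ₗ[R] N)
    (h : ∀ g : M →ₗ[R] E, ∃ g' : N →ₗ[R] E, g' ∘ₗ φ = g) : Function.Injective φ := by
  refine (injective_iff_map_eq_zero φ).2 fun x hx => eq_zero_of_forall_dual hf x fun g => ?_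
  obtain ⟨g', rfl⟩ := h g
  rw [LinearMap.comp_apply, hx, map_zero]

include hf in
theorem surjective_of_dual {M N : Type u} [AddCommGroup M] [Module R M] [AddCommGroup N] [Module R N] (φ : M →ₗ[R] N)
    (h : ∀ g : N →ₗ[R] E, g ∘ₗ φ = 0 → g = 0) : Function.Surjective φ := by
  intro y
  have h0 : (LinearMap.range φ).mkQ y = 0 := eq_zero_of_forall_dual hf _ fun g => by
    have := h (g ∘ₗ (LinearMap.range φ).mkQ) (by rw [LinearMap.comp_assoc, LinearMap.range_mkQ_comp, LinearMap.comp_zero])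
    exact LinearMap.congr_fun this y
  rwa [Submodule.mkQ_apply, Submodule.Quotient.mk_eq_zero] at h0

variable [IsNoetherianRing R]

/-- Two finite modules with a map surjective modulo `m` in each direction are isomorphic. -/
theorem nonempty_equiv_of_surjective {M N : Type u} [AddCommGroup M] [Module R M] [Module.Finite R M] [AddCommGroup N]
    [Module R N] (φ : M →ₗ[R] N) (ψ : N →ₗ[R] M) (hφ : Function.Surjective φ) (hψ : Function.Surjective ψ) :
    Nonempty (M ≃ₗ[R] N) := by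
  have h := OrzechProperty.injective_of_surjective_endomorphism (ψ ∘ₗ φ) (hψ.comp hφ)
  exact ⟨LinearEquiv.ofBijective φ ⟨fun a b hab => h (congrArg ψ hab), hφ⟩⟩

/-- Maps modulo high powers of `m` agree modulo `m` with honest maps (Artin–Rees). -/
theorem exists_approx (M N : Type u) [AddCommGroup M] [Module R M] [Module.Finite R M] [AddCommGroup N] [Module R N]
    [Module.Finite R N] : ∃ t : ℕ, ∀ χ : M →ₗ[R] (N ⧸ (maximalIdeal R ^ t • (⊤ : Submodule R N))),
      ∃ g : M →ₗ[R] N, ∀ x : M, ∀ y : N, Submodule.Quotient.mk y = χ x → g x - y ∈ maximalIdeal R • (⊤ : Submodule R N) := by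
  classical
  let m := maximalIdeal R
  obtain ⟨a, π, hπ⟩ := Module.Finite.exists_fin' R M
  obtain ⟨b, π', hπ'⟩ := Module.Finite.exists_fin' R (LinearMap.ker π)
  let D : (Fin b → R) →ₗ[R] (Fin a → R) := (LinearMap.ker π).subtype ∘ₗ π'
  let L : ((Fin a → R) →ₗ[R] N) →ₗ[R] ((Fin b → R) →ₗ[R] N) := LinearMap.lcomp R N D
  obtain ⟨k, hk⟩ := Ideal.exists_pow_inf_eq_pow_smul (I := m) (LinearMap.range L)
  refine ⟨k + 1, fun χ => ?_⟩
  let P := (m ^ (k + 1) • (⊤ : Submodule R N))
  obtain ⟨φ₀, hφ₀⟩ := Module.projective_lifting_property P.mkQ (χ ∘ₗ π) P.mkQ_surjective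
  have hmem : ∀ j, L φ₀ (Pi.single j 1) ∈ P := fun j => by
    rw [← Submodule.Quotient.mk_eq_zero]
    refine (LinearMap.congr_fun hφ₀ (D (Pi.single j 1))).trans ?_
    rw [LinearMap.comp_apply, show π (D (Pi.single j 1)) = 0 from (π' (Pi.single j 1)).2, map_zero]
  have hbig : L φ₀ ∈ m ^ (k + 1) • (⊤ : Submodule R ((Fin b → R) →ₗ[R] N)) ⊓ LinearMap.range L := by
    refine ⟨?_, LinearMap.mem_range_self L φ₀⟩
    have hsum : L φ₀ = ∑ j, (LinearMap.toSpanSingleton R N (L φ₀ (Pi.single j 1))) ∘ₗ LinearMap.proj j := by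
      refine LinearMap.ext fun v => ?_
      rw [LinearMap.sum_apply]
      conv_lhs => rw [← Finset.univ_sum_single v, map_sum]
      refine Finset.sum_congr rfl fun j _ => ?_
      show L φ₀ (Pi.single j (v j)) = v j • L φ₀ (Pi.single j 1)
      rw [← map_smul, ← Pi.single_smul, smul_eq_mul, mul_one]
    rw [hsum]
    refine Submodule.sum_mem _ fun j _ => ?_
    let ι : N →ₗ[R] ((Fin b → R) →ₗ[R] N) :=
      (LinearMap.lcomp R N (LinearMap.proj j : (Fin b → R) →ₗ[R] R)) ∘ₗ (LinearMap.ringLmapEquivSelf R R N).symm.toLinearMap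
    have : ι (L φ₀ (Pi.single j 1)) ∈ m ^ (k + 1) • (⊤ : Submodule R ((Fin b → R) →ₗ[R] N)) := by
      have h1 := Submodule.mem_map_of_mem (f := ι) (hmem j)
      rw [Submodule.map_smul''] at h1
      exact Submodule.smul_mono le_rfl le_top h1
    exact this
  rw [hk (k + 1) (Nat.le_succ k), Nat.add_sub_cancel_left, pow_one] at hbig
  have hbig' : L φ₀ ∈ (m • (⊤ : Submodule R ((Fin a → R) →ₗ[R] N))).map L := by
    rw [Submodule.map_smul'', Submodule.map_top]
    exact Submodule.smul_mono le_rfl inf_le_right hbig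
  obtain ⟨ψ, hψ, hψe⟩ := hbig'
  obtain ⟨g, hg⟩ : ∃ g : M →ₗ[R] N, ∀ x, g (π x) = (φ₀ - ψ) x := by
    refine ⟨(LinearMap.ker π).liftQ (φ₀ - ψ) (fun x hx => ?_) ∘ₗ (π.quotKerEquivOfSurjective hπ).symm.toLinearMap, fun x => ?_⟩
    · obtain ⟨w, hw⟩ := hπ' ⟨x, hx⟩
      have h1 : D w = x := congrArg Subtype.val hw
      rw [LinearMap.mem_ker, LinearMap.sub_apply, ← h1, sub_eq_zero]
      exact (LinearMap.congr_fun hψe w).symm
    · have : (π.quotKerEquivOfSurjective hπ).symm (π x) = Submodule.Quotient.mk x := by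
        rw [LinearEquiv.symm_apply_eq]; rfl
      rw [LinearMap.comp_apply, LinearEquiv.coe_coe, this, Submodule.liftQ_apply]
  refine ⟨g, fun x y hy => ?_⟩
  obtain ⟨x, rfl⟩ := hπ x
  rw [hg, LinearMap.sub_apply, show φ₀ x - ψ x - y = (φ₀ x - y) - ψ x by abel]
  refine Submodule.sub_mem _ ?_ ?_
  · refine Submodule.smul_mono (Ideal.pow_le_self (Nat.succ_ne_zero k)) le_rfl ?_
    rw [← Submodule.Quotient.mk_eq_zero, Submodule.Quotient.mk_sub, hy, sub_eq_zero]
    exact LinearMap.congr_fun hφ₀ x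
  · have h1 := Submodule.mem_map_of_mem (f := LinearMap.applyₗ (R := R) (M₂ := N) x) hψ
    rw [Submodule.map_smul''] at h1
    exact Submodule.smul_mono le_rfl le_top h1

include hf in
/-- Finite modules with isomorphic Matlis duals are isomorphic. -/
theorem nonempty_equiv_of_dual {M N : Type u} [AddCommGroup M] [Module R M] [Module.Finite R M] [AddCommGroup N]
    [Module R N] [Module.Finite R N] (e : (M →ₗ[R] E) ≃ₗ[R] (N →ₗ[R] E)) : Nonempty (M ≃ₗ[R] N) := by
  suffices H : ∀ (M N : Type u) [AddCommGroup M] [Module R M] [Module.Finite R M] [AddCommGroup N] [Module R N]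
      [Module.Finite R N], ((M →ₗ[R] E) ≃ₗ[R] (N →ₗ[R] E)) → ∃ g : N →ₗ[R] M, Function.Surjective g by
    obtain ⟨g, hg⟩ := H M N e
    obtain ⟨g', hg'⟩ := H N M e.symm
    exact nonempty_equiv_of_surjective g' g hg' hg
  intro M N _ _ _ _ _ _ e
  obtain ⟨t, ht⟩ := exists_approx (R := R) N M
  let P := (maximalIdeal R ^ (t + 1) • (⊤ : Submodule R M))
  have hkill : ∀ a ∈ maximalIdeal R ^ (t + 1), ∀ x : M ⧸ P, a • x = 0 := fun a ha x => by
    obtain ⟨y, rfl⟩ := P.mkQ_surjective x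
    rw [← map_smul, Submodule.mkQ_apply, Submodule.Quotient.mk_eq_zero]
    exact Submodule.smul_mem_smul ha Submodule.mem_top
  have hbid := InjHull.apply_bijective_of_finiteLength (m := maximalIdeal R) hf
    (InjHull.isFiniteLength_of_pow_smul_eq_zero _ (t + 1) _ inferInstance hkill)
    (fun x => ⟨t + 1, fun a ha => hkill a ha x⟩)
  let E₀ : (M ⧸ P →ₗ[R] E) →ₗ[R] (N →ₗ[R] E) := e.toLinearMap ∘ₗ LinearMap.lcomp R E P.mkQ
  let α := (LinearEquiv.ofBijective _ hbid).symm
  let χ : N →ₗ[R] M ⧸ P := α.toLinearMap ∘ₗ LinearMap.lcomp R E E₀ ∘ₗ LinearMap.applyₗ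
  have hχ : ∀ (n : N) (h : M ⧸ P →ₗ[R] E), h (χ n) = E₀ h n := fun n h => by
    have h1 := (LinearEquiv.ofBijective _ hbid).apply_symm_apply ((LinearMap.lcomp R E E₀) (LinearMap.applyₗ n))
    exact LinearMap.congr_fun h1 h
  have hsur : Function.Surjective χ := surjective_of_dual hf χ fun h h0 => by
    have h2 : E₀ h = 0 := LinearMap.ext fun n => (hχ n h).symm.trans (LinearMap.congr_fun h0 n)
    exact Submodule.linearMap_qext _ (e.injective (h2.trans (map_zero e).symm))
  let Q := (maximalIdeal R ^ t • (⊤ : Submodule R M))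
  let q : M ⧸ P →ₗ[R] M ⧸ Q := P.mapQ Q LinearMap.id (fun x hx => Submodule.smul_mono (Ideal.pow_le_pow_right t.le_succ) le_rfl hx)
  obtain ⟨g, hg⟩ := ht (q ∘ₗ χ)
  refine ⟨g, LinearMap.range_eq_top.1 ?_⟩
  have htop : (⊤ : Submodule R M) ≤ LinearMap.range g ⊔ maximalIdeal R • (⊤ : Submodule R M) := fun y _ => by
    obtain ⟨n, hn⟩ := hsur (Submodule.Quotient.mk y)
    have h1 := hg n y (by rw [LinearMap.comp_apply, hn]; rfl)
    exact Submodule.mem_sup.2 ⟨g n, LinearMap.mem_range_self g n, -(g n - y), Submodule.neg_mem _ h1, by abel⟩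
  exact top_le_iff.1 (Submodule.le_of_le_smul_of_le_jacobson_bot Module.Finite.fg_top
    (IsLocalRing.maximalIdeal_le_jacobson ⊥) htop)

end Groth.Agent.CanonDual
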