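import Mathlib
import Groth.Prelude.Def_CAlg
import Groth.Agent.CanonDual.Matlis
import Groth.Agent.LocH.Depth
import Groth.Agent.LocH.NonVanishing
import Groth.Agent.LocH.Killing
import Groth.Agent.SegreDim.Ischebeck
import Groth.Agent.InvFin.Depth

/-!
Canonical duals of Cohen–Macaulay modules and regular sequences.
-/

set_option autoImplicit false

namespace Groth.Agent.CanonDual

universe u

open CategoryTheory CategoryTheory.Limits IsLocalRing RingTheory.Sequence
open scoped Pointwise

variable {R : Type u} [CommRing R] [IsNoetherianRing R] [IsLocalRing R] {E : Type u} [AddCommGroup E] [Module R E]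
  {f : ResidueField R →ₗ[R] E} (hf : InjHull.IsInjectiveHull f)
  {M : Type u} [AddCommGroup M] [Module R M] {Q : Type u} [AddCommGroup Q] [Module R Q]

include hf in
/-- Cutting by a regular element. -/
theorem step_down {a : R} (ha : IsSMulRegular M a) {m : ℕ}
    (h0 : Subsingleton (LocCoh.H (maximalIdeal R) m M))
    (h1 : Subsingleton (LocCoh.H (maximalIdeal R) (m + 1) (QuotSMulTop a M)))
    (e : (Q →ₗ[R] E) ≃ₗ[R] LocCoh.H (maximalIdeal R) (m + 1) M) :
    IsSMulRegular Q a ∧
      Nonempty ((QuotSMulTop a Q →ₗ[R] E) ≃ₗ[R] LocCoh.H (maximalIdeal R) m (QuotSMulTop a M)) := by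
  have hS := LocH.smulSES_shortExact ha
  have hf' : ∀ (j : ℕ) (y : LocCoh.H (maximalIdeal R) j M),
      (localCohomology (maximalIdeal R) j).map (LocH.smulSES M a).f y = a • y := LocH.map_smul_id_apply a
  refine ⟨?_, ?_⟩
  · refine injective_of_dual hf (LinearMap.lsmul R Q a) fun g => ?_
    obtain ⟨z, hz⟩ := LocH.exact₂ hS (m + 1) (x := e g) (h1.elim _ _)
    refine ⟨e.symm z, LinearMap.ext fun q => ?_⟩
    have : a • e.symm z = g := e.injective (by rw [map_smul, e.apply_symm_apply, ← hf' (m + 1) z]; exact hz)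
    rw [← this]
    exact map_smul (e.symm z) a q
  · let δ : LocCoh.H (maximalIdeal R) m (QuotSMulTop a M) →ₗ[R] LocCoh.H (maximalIdeal R) (m + 1) M :=
      LocH.delta hS m
    have hδ : Function.Injective δ := by
      refine (injective_iff_map_eq_zero δ).2 fun w hw => ?_
      obtain ⟨v, rfl⟩ := LocH.exact₃ hS m hw
      exact (congrArg _ (Subsingleton.elim (α := LocCoh.H (maximalIdeal R) m M) v 0)).trans (map_zero _)
    let Θ : (QuotSMulTop a Q →ₗ[R] E) →ₗ[R] LocCoh.H (maximalIdeal R) (m + 1) M :=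
      e.toLinearMap ∘ₗ LinearMap.lcomp R E (Submodule.mkQ _)
    have hΘ : Function.Injective Θ := fun g g' h => Submodule.linearMap_qext _ (e.injective h)
    have hrange : LinearMap.range Θ = LinearMap.range δ := by
      refine le_antisymm ?_ ?_
      · rintro _ ⟨g, rfl⟩
        refine LocH.exact₁ hS m ((hf' (m + 1) (Θ g)).trans ?_)
        rw [← map_smul]
        refine (congrArg Θ (LinearMap.ext fun x => ?_)).trans (map_zero Θ)
        obtain ⟨x, rfl⟩ := Submodule.Quotient.mk_surjective _ x
        rw [LinearMap.smul_apply, ← map_smul, ← Submodule.Quotient.mk_smul,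
          (Submodule.Quotient.mk_eq_zero _).2 (Submodule.smul_mem_pointwise_smul x a _ Submodule.mem_top), map_zero]
        rfl
      · rintro _ ⟨w, rfl⟩
        have h : a • δ w = 0 := (hf' (m + 1) (δ w)).symm.trans (LocH.map_delta hS m w)
        refine ⟨(a • (⊤ : Submodule R Q)).liftQ (e.symm (δ w)) ?_, ?_⟩
        · rintro _ ⟨x, -, rfl⟩
          rw [LinearMap.mem_ker]
          show e.symm (δ w) (a • x) = 0
          rw [map_smul, ← LinearMap.smul_apply, ← map_smul, h, map_zero]
          rfl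
        · show e _ = δ w
          exact (congrArg e (LinearMap.ext fun x => rfl)).trans (e.apply_symm_apply (δ w))
    exact ⟨(LinearEquiv.ofInjective Θ hΘ).trans ((LinearEquiv.ofEq _ _ hrange).trans (LinearEquiv.ofInjective δ hδ).symm)⟩

theorem le_supportDim_of_mem_support {p : PrimeSpectrum R} [Module.Finite R M] (hp : p ∈ Module.support R M) :
    ringKrullDim (R ⧸ p.asIdeal) ≤ Module.supportDim R M := by
  rw [← Module.supportDim_quotient_eq_ringKrullDim]
  exact Order.krullDim_le_of_strictMono (fun a => ⟨a.1, Module.mem_support_iff_of_finite.2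
    ((Module.mem_support_iff_of_finite.1 hp).trans (LocH.mem_support_quotient_iff.1 a.2))⟩) fun a b hab => hab

include hf in
/-- An element regular on the dual is regular on the module. -/
theorem isSMulRegular_of_dual [Module.Finite R M] {n : ℕ}
    (hvan : ∀ i, i < n → Subsingleton (LocCoh.H (maximalIdeal R) i M)) (hd : Module.supportDim R M = n)
    (e : (Q →ₗ[R] E) ≃ₗ[R] LocCoh.H (maximalIdeal R) n M) {a : R} (ha : IsSMulRegular Q a) :
    IsSMulRegular M a := by
  by_contra hM
  have hsurj : Function.Surjective ((localCohomology (maximalIdeal R) n).map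
      (ModuleCat.ofHom (Submodule.mkQ (a • (⊤ : Submodule R M))))) :=
    LocH.map_surjective_of_surjective _ (Submodule.mkQ_surjective _) n (by rw [hd]; exact_mod_cast Nat.lt_succ_self n)
  have h1 : Subsingleton (LocCoh.H (maximalIdeal R) n (QuotSMulTop a M)) := by
    refine subsingleton_of_forall_eq 0 fun x => ?_
    obtain ⟨y, rfl⟩ := hsurj x
    have := hf.isInjective
    obtain ⟨g, hg⟩ := Module.Injective.out (R := R) (LinearMap.lsmul R Q a) ha (e.symm y)
    have hy : a • e g = y := by
      rw [← map_smul, ← e.apply_symm_apply y]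
      exact congrArg e (LinearMap.ext fun q => (map_smul g a q).symm.trans (hg q))
    rw [← hy, map_smul, ← LocH.map_smul_id_apply a n]
    rw [show a • 𝟙 (ModuleCat.of R (QuotSMulTop a M)) = 0 from ModuleCat.hom_ext (LinearMap.ext fun w => by
      obtain ⟨w, rfl⟩ := Submodule.Quotient.mk_surjective _ w
      exact (Submodule.Quotient.mk_eq_zero _).2 (Submodule.smul_mem_pointwise_smul w a _ Submodule.mem_top))]
    rw [Functor.map_zero]
    rfl
  obtain ⟨p, hp, hap⟩ : ∃ p ∈ associatedPrimes R M, a ∈ p := by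
    rw [isSMulRegular_iff_right_eq_zero_of_smul] at hM
    push Not at hM
    obtain ⟨x, hx, hx0⟩ := hM
    have hmem : a ∈ {r : R | ∃ y : M, y ≠ 0 ∧ r • y = 0} := ⟨x, hx0, hx⟩
    rw [← biUnion_associatedPrimes_eq_zero_divisors, Set.mem_iUnion₂] at hmem
    obtain ⟨p, hp, hap⟩ := hmem
    exact ⟨p, hp, hap⟩
  have hdepth : (n : ℕ∞) ≤ LocCoh.depth R M := (LocH.le_idealDepth_iff _ M n).2 hvan
  have h2 : (n : WithBot ℕ∞) ≤ ringKrullDim (R ⧸ p) :=
    le_trans (by exact_mod_cast hdepth) (SegreDim.depth_le_dim p hp)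
  have hps : (⟨p, hp.1⟩ : PrimeSpectrum R) ∈ Module.support R (QuotSMulTop a M) := by
    rw [Module.support_quotSMulTop]
    exact ⟨Module.mem_support_iff_of_finite.2 (Submodule.annihilator_top.symm.trans_le (IsAssociatedPrime.annihilator_le hp)), by simpa [PrimeSpectrum.mem_zeroLocus] using hap⟩
  have h3 := le_supportDim_of_mem_support hps
  have h4 : Module.supportDim R (QuotSMulTop a M) ≤ n :=
    (Module.supportDim_le_of_surjective (R := R) _ (Submodule.mkQ_surjective _)).trans hd.le
  have h5 := LocH.nontrivial_at_supportDim (QuotSMulTop a M) n (le_antisymm h4 (h2.trans h3))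
  exact not_subsingleton_iff_nontrivial.2 h5 h1

include hf in
/-- Regular sequences on a Cohen–Macaulay module and on its dual. -/
theorem weaklyRegular_iff : ∀ (as : List R), (∀ a ∈ as, a ∈ maximalIdeal R) →
    ∀ (M : Type u) [AddCommGroup M] [Module R M] [Module.Finite R M] (Q : Type u) [AddCommGroup Q] [Module R Q]
      [Module.Finite R Q] (n : ℕ), (∀ i, i < n → Subsingleton (LocCoh.H (maximalIdeal R) i M)) →
      Module.supportDim R M = n → ((Q →ₗ[R] E) ≃ₗ[R] LocCoh.H (maximalIdeal R) n M) →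
      (IsWeaklyRegular M as ↔ IsWeaklyRegular Q as) ∧
      (IsWeaklyRegular M as → as.length ≤ n ∧
        Nonempty (((Q ⧸ (Ideal.ofList as • (⊤ : Submodule R Q))) →ₗ[R] E) ≃ₗ[R]
          LocCoh.H (maximalIdeal R) (n - as.length) (M ⧸ (Ideal.ofList as • (⊤ : Submodule R M)))))
  | [], _, M, _, _, _, Q, _, _, _, n, hvan, hd, e => by
    refine ⟨iff_of_true (IsWeaklyRegular.nil R M) (IsWeaklyRegular.nil R Q), fun _ => ⟨Nat.zero_le n, ?_⟩⟩
    let q : (M ⧸ (Ideal.ofList ([] : List R) • (⊤ : Submodule R M))) ≃ₗ[R] M :=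
      Submodule.quotEquivOfEqBot _ (by simp)
    let q' : (Q ⧸ (Ideal.ofList ([] : List R) • (⊤ : Submodule R Q))) ≃ₗ[R] Q :=
      Submodule.quotEquivOfEqBot _ (by simp)
    exact ⟨(q'.congrLeft E R).trans (e.trans
      ((localCohomology (maximalIdeal R) n).mapIso q.symm.toModuleIso).toLinearEquiv)⟩
  | a :: rest, has, M, _, _, _, Q, _, _, _, n, hvan, hd, e => by
    have ha : a ∈ maximalIdeal R := has a List.mem_cons_self
    have hrest : ∀ b ∈ rest, b ∈ maximalIdeal R := fun b hb => has b (List.mem_cons_of_mem a hb)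
    have key : IsSMulRegular M a → ∃ m, n = m + 1 ∧ IsSMulRegular Q a ∧
        (∀ i, i < m → Subsingleton (LocCoh.H (maximalIdeal R) i (QuotSMulTop a M))) ∧
        Module.supportDim R (QuotSMulTop a M) = m ∧
        Nonempty ((QuotSMulTop a Q →ₗ[R] E) ≃ₗ[R] LocCoh.H (maximalIdeal R) m (QuotSMulTop a M)) := by
      intro hreg
      haveI : Nontrivial M := (Module.supportDim_ne_bot_iff_nontrivial R M).1 (by rw [hd]; simp)
      have h := Module.supportDim_quotSMulTop_succ_eq_supportDim_mem_jacobson hreg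
        (maximalIdeal_le_jacobson _ ha)
      rw [hd] at h
      obtain ⟨m, rfl⟩ : ∃ m, n = m + 1 := by
        rcases n with _ | m
        · exfalso
          have hq : Module.supportDim R (QuotSMulTop a M) ≠ ⊥ := by
            rw [Module.supportDim_ne_bot_iff_nontrivial]
            exact Submodule.Quotient.nontrivial_iff.2 (Ne.symm (Submodule.top_ne_pointwise_smul_of_mem_jacobson_annihilator
              (maximalIdeal_le_jacobson _ ha)))
          obtain ⟨c, hc⟩ := WithBot.ne_bot_iff_exists.1 hq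
          rw [← hc] at h
          have : ((c + 1 : ℕ∞) : WithBot ℕ∞) = ((0 : ℕ∞) : WithBot ℕ∞) := h
          exact absurd (WithBot.coe_inj.1 this) (by simp)
        · exact ⟨m, rfl⟩
      have hdim : Module.supportDim R (QuotSMulTop a M) = m := LocH.eq_of_add_one_eq (by rw [h]; push_cast; rfl)
      have h1 : Subsingleton (LocCoh.H (maximalIdeal R) (m + 1) (QuotSMulTop a M)) :=
        LocH.subsingleton_of_supportDim_lt _ _ _ (by rw [hdim]; exact_mod_cast Nat.lt_succ_self m)
      obtain ⟨hQ, hE⟩ := step_down hf hreg (hvan m (Nat.lt_succ_self m)) h1 e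
      exact ⟨m, rfl, hQ, fun i hi => LocH.subsingleton_X₃ (LocH.smulSES_shortExact hreg) i (hvan i (by omega))
        (hvan (i + 1) (by omega)), hdim, hE⟩
    rw [isWeaklyRegular_cons_iff, isWeaklyRegular_cons_iff]
    constructor
    · constructor
      · rintro ⟨hreg, hw⟩
        obtain ⟨m, -, hQ, hvan', hd', ⟨e'⟩⟩ := key hreg
        exact ⟨hQ, ((weaklyRegular_iff rest hrest (QuotSMulTop a M) (QuotSMulTop a Q) m hvan' hd' e').1).1 hw⟩
      · rintro ⟨hQ, hw⟩
        have hreg := isSMulRegular_of_dual hf hvan hd e hQ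
        obtain ⟨m, -, -, hvan', hd', ⟨e'⟩⟩ := key hreg
        exact ⟨hreg, ((weaklyRegular_iff rest hrest (QuotSMulTop a M) (QuotSMulTop a Q) m hvan' hd' e').1).2 hw⟩
    · rintro ⟨hreg, hw⟩
      obtain ⟨m, rfl, -, hvan', hd', ⟨e'⟩⟩ := key hreg
      obtain ⟨hlen, ⟨e''⟩⟩ := (weaklyRegular_iff rest hrest (QuotSMulTop a M) (QuotSMulTop a Q) m hvan' hd' e').2 hw
      refine ⟨by simpa using hlen, ?_⟩
      rw [List.length_cons, Nat.add_sub_add_right]
      exact ⟨((Submodule.quotOfListConsSMulTopEquivQuotSMulTopInner Q a rest).congrLeft E R).trans (e''.trans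
        ((localCohomology (maximalIdeal R) (m - rest.length)).mapIso
          (Submodule.quotOfListConsSMulTopEquivQuotSMulTopInner M a rest).symm.toModuleIso).toLinearEquiv)⟩

/-- The data of a Cohen–Macaulay ring. -/
theorem cm_data (A : Type u) [CommRing A] [LocCoh.IsCohenMacaulayLocalRing A] {n : ℕ} (hn : ringKrullDim A = n) :
    Module.supportDim A A = n ∧ ∀ i, i < n → Subsingleton (LocCoh.H (maximalIdeal A) i A) := by
  refine ⟨(Module.supportDim_self_eq_ringKrullDim (R := A)).trans hn, fun i hi => ?_⟩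
  have h := ‹LocCoh.IsCohenMacaulayLocalRing A›.supportDim_eq_depth
  rw [Module.supportDim_self_eq_ringKrullDim, hn] at h
  exact (LocH.le_idealDepth_iff _ A n).1 (WithBot.coe_le_coe.1 h.le) i hi

theorem nontrivial_of_dual {n : ℕ} [Module.Finite R M] (hd : Module.supportDim R M = n)
    (e : (Q →ₗ[R] E) ≃ₗ[R] LocCoh.H (maximalIdeal R) n M) : Nontrivial Q := by
  by_contra h
  rw [not_nontrivial_iff_subsingleton] at h
  have := LocH.nontrivial_at_supportDim M n hd
  have : Subsingleton (LocCoh.H (maximalIdeal R) n M) := e.symm.toEquiv.subsingleton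
  exact false_of_nontrivial_of_subsingleton (LocCoh.H (maximalIdeal R) n M)

include hf in
/-- The dual of a Cohen–Macaulay module of full dimension is Cohen–Macaulay of full dimension. -/
theorem dual_cm [Module.Finite R M] [Module.Finite R Q] {n : ℕ} (hR : ringKrullDim R = n)
    (hvan : ∀ i, i < n → Subsingleton (LocCoh.H (maximalIdeal R) i M)) (hd : Module.supportDim R M = n)
    (e : (Q →ₗ[R] E) ≃ₗ[R] LocCoh.H (maximalIdeal R) n M) :
    Module.supportDim R Q = n ∧ LocCoh.depth R Q = n ∧
      ∀ i, i < n → Subsingleton (LocCoh.H (maximalIdeal R) i Q) := by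
  obtain ⟨rs, hlen, hrs, hmem⟩ := LocH.exists_isWeaklyRegular (maximalIdeal R) n M hvan
  have hQ := ((weaklyRegular_iff hf rs hmem M Q n hvan hd e).1).1 hrs
  have hvanQ : ∀ i, i < n → Subsingleton (LocCoh.H (maximalIdeal R) i Q) := fun i hi =>
    LocH.subsingleton_of_isWeaklyRegular (maximalIdeal R) rs Q hQ hmem i (hlen.symm ▸ hi)
  have hdepth : (n : ℕ∞) ≤ LocCoh.depth R Q := (LocH.le_idealDepth_iff _ Q n).2 hvanQ
  have hne : Nontrivial Q := nontrivial_of_dual hd e
  have hle : Module.supportDim R Q ≤ (n : WithBot ℕ∞) := (Module.supportDim_le_ringKrullDim R Q).trans hR.le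
  obtain ⟨c, hc⟩ := WithBot.ne_bot_iff_exists.1 ((Module.supportDim_ne_bot_iff_nontrivial R Q).2 hne)
  rw [← hc] at hle
  obtain ⟨c', hc'⟩ := ENat.ne_top_iff_exists.1 (ne_top_of_le_ne_top (ENat.natCast_ne_top n) (WithBot.coe_le_coe.1 hle))
  subst hc'
  have h1 : LocCoh.depth R Q ≤ c' := InvFin.depth_le_supportDim Q (by rw [← hc]; rfl)
  have h2 : c' ≤ n := by exact_mod_cast WithBot.coe_le_coe.1 hle
  have h3 : n ≤ c' := by exact_mod_cast hdepth.trans h1
  obtain rfl : c' = n := le_antisymm h2 h3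
  exact ⟨by rw [← hc]; rfl, le_antisymm h1 hdepth, hvanQ⟩

end Groth.Agent.CanonDual
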