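import Mathlib
import Groth.Prelude.Def_Wider
import Groth.Agent.CanonDual.Matlis
import Groth.Agent.LocH.ChangeRings
import Groth.Agent.LocH.AdjDepthChange

/-!
Matlis duals along a surjection of local rings.
-/

set_option autoImplicit false

namespace Groth.Agent.CanonDual

universe u

open IsLocalRing

variable {S R : Type u} [CommRing S] [IsLocalRing S] [CommRing R] [IsLocalRing R] [Algebra S R]
  (hπ : Function.Surjective (algebraMap S R))
  {ES : Type u} [AddCommGroup ES] [Module S ES] {fS : ResidueField S →ₗ[S] ES} (hfS : InjHull.IsInjectiveHull fS)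
  {E : Type u} [AddCommGroup E] [Module R E] [Module S E] [IsScalarTower S R E]
  {f : ResidueField R →ₗ[R] E} (hf : InjHull.IsInjectiveHull f)

include hπ hfS hf in
/-- The hull over a quotient ring is the part of the hull killed by the kernel. -/
theorem exists_hull_restrict : ∃ ι : E →ₗ[S] ES, Function.Injective ι ∧
    ∀ y : ES, (∀ b ∈ RingHom.ker (algebraMap S R), b • y = 0) → y ∈ LinearMap.range ι := by
  classical
  have := hfS.isInjective
  have := hf.isInjective
  have hmax : ∀ s : S, s ∈ maximalIdeal S ↔ algebraMap S R s ∈ maximalIdeal R := by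
    intro s
    have hmax : ((maximalIdeal R).comap (algebraMap S R)).IsMaximal := Ideal.comap_isMaximal_of_surjective _ hπ
    rw [← IsLocalRing.eq_maximalIdeal hmax, Ideal.mem_comap]
  let q : S →ₗ[S] R ⧸ maximalIdeal R := (Algebra.linearMap S (R ⧸ maximalIdeal R))
  have hq : ∀ s, q s = Ideal.Quotient.mk (maximalIdeal R) (algebraMap S R s) := fun s => rfl
  let θ : ResidueField S →ₗ[S] ResidueField R := Submodule.liftQ _ q fun s hs => by
    rw [LinearMap.mem_ker]
    exact (hq s).trans (Ideal.Quotient.eq_zero_iff_mem.2 ((hmax s).1 hs))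
  have hθ : Function.Bijective θ := by
    refine ⟨(injective_iff_map_eq_zero θ).2 fun v hv => ?_, fun v => ?_⟩
    · obtain ⟨s, rfl⟩ := Submodule.Quotient.mk_surjective _ v
      exact (Submodule.Quotient.mk_eq_zero _).2 ((hmax s).2 (Ideal.Quotient.eq_zero_iff_mem.1 hv))
    · obtain ⟨r, rfl⟩ := Ideal.Quotient.mk_surjective (I := maximalIdeal R) v
      obtain ⟨s, rfl⟩ := hπ r
      exact ⟨Submodule.Quotient.mk s, rfl⟩
  let θe := LinearEquiv.ofBijective θ hθ
  obtain ⟨ι, hι⟩ := Module.Injective.out (R := S) (f.restrictScalars S) hf.injective (fS ∘ₗ θe.symm.toLinearMap)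
  have hιinj : Function.Injective ι := by
    refine (injective_iff_map_eq_zero ι).2 fun x hx => ?_
    by_contra hx0
    obtain ⟨z, hz, hz0⟩ := Submodule.exists_mem_ne_zero_of_ne_bot
      (hf.essential (R ∙ x) (by simpa using hx0))
    obtain ⟨r, hr⟩ := Submodule.mem_span_singleton.1 hz.1
    obtain ⟨v, hv⟩ := hz.2
    obtain ⟨s, rfl⟩ := hπ r
    rw [algebraMap_smul] at hr
    have h1 : ι (f v) = 0 := by rw [hv, ← hr, map_smul, hx, smul_zero]
    rw [show ι (f v) = fS (θe.symm v) from hι v] at h1
    rw [← map_zero fS] at h1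
    have hv0 : v = 0 := θe.symm.injective ((hfS.injective h1).trans (map_zero _).symm)
    exact hz0 (by rw [← hv, hv0, map_zero])
  refine ⟨ι, hιinj, ?_⟩
  let T : Submodule S ES := Submodule.torsionBySet S ES (RingHom.ker (algebraMap S R) : Set S)
  have hkill : ∀ t : T, ∀ b ∈ RingHom.ker (algebraMap S R), b • t = 0 := fun t b hb =>
    Subtype.ext ((Submodule.mem_torsionBySet_iff _ _).1 t.2 ⟨b, hb⟩)
  let ρ : R →+* AddMonoid.End T := RingHom.liftOfSurjective (algebraMap S R) hπ
    ⟨Module.toAddMonoidEnd S T, fun b hb => AddMonoidHom.ext fun t => hkill t b hb⟩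
  letI : Module R T := Module.compHom T ρ
  haveI : IsScalarTower S R T := ⟨fun s r t => by
    obtain ⟨s', rfl⟩ := hπ r
    rw [Algebra.smul_def, ← map_mul]
    show ρ (algebraMap S R (s * s')) t = s • ρ (algebraMap S R s') t
    rw [show ρ (algebraMap S R (s * s')) = Module.toAddMonoidEnd S T (s * s') from
        RingHom.liftOfRightInverse_comp_apply _ _ _ _ _,
      show ρ (algebraMap S R s') = Module.toAddMonoidEnd S T s' from
        RingHom.liftOfRightInverse_comp_apply _ _ _ _ _]
    exact mul_smul s s' t⟩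
  have hιT : ∀ x, ι x ∈ T := fun x => (Submodule.mem_torsionBySet_iff _ _).2 fun b => by
    rw [← map_smul, ← algebraMap_smul R (b : S) x, show algebraMap S R (b : S) = 0 from b.2, zero_smul, map_zero]
  let ιT : E →ₗ[R] T :=
    { toFun := fun x => ⟨ι x, hιT x⟩
      map_add' := fun x y => Subtype.ext (map_add ι x y)
      map_smul' := fun r x => by
        obtain ⟨s, rfl⟩ := hπ r
        rw [RingHom.id_apply, algebraMap_smul R s, algebraMap_smul R s]
        exact Subtype.ext (map_smul ι s x) }
  obtain ⟨L, hL⟩ := Module.Injective.out (R := R) ιT (fun a b hab => hιinj (congrArg Subtype.val hab))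
    (LinearMap.id : E →ₗ[R] E)
  intro y hy
  let t : T := ⟨y, (Submodule.mem_torsionBySet_iff _ _).2 fun b => hy b b.2⟩
  refine ⟨L t, ?_⟩
  by_contra hne
  let z : T := t - ιT (L t)
  have hz : (z : ES) ≠ 0 := fun h => hne (sub_eq_zero.1 h).symm
  have hLz : L z = 0 := by rw [map_sub, hL, LinearMap.id_apply, sub_self]
  obtain ⟨w, hw, hw0⟩ := Submodule.exists_mem_ne_zero_of_ne_bot
    (hfS.essential (S ∙ (z : ES)) (by simpa using hz))
  obtain ⟨s, hs⟩ := Submodule.mem_span_singleton.1 hw.1
  obtain ⟨v, hv⟩ := hw.2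
  have h1 : ι (f (θe v)) = w := by
    rw [show ι (f (θe v)) = fS (θe.symm (θe v)) from hι (θe v), θe.symm_apply_apply, hv]
  have h2 : ιT (f (θe v)) = s • z := Subtype.ext (h1.trans hs.symm)
  have h3 : f (θe v) = 0 := by
    rw [← LinearMap.id_apply (R := R) (f (θe v)), ← hL, h2, LinearMap.map_smul_of_tower, hLz, smul_zero]
  exact hw0 (by rw [← h1, h3, map_zero])

include hπ hfS hf in
/-- Matlis duals of modules over a quotient ring. -/
theorem exists_semilinear_dual (N : Type u) [AddCommGroup N] [Module R N] [Module S N] [IsScalarTower S R N] :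
    ∃ φ : (N →ₗ[R] E) ≃+ (N →ₗ[S] ES), ∀ (s : S) g, φ (algebraMap S R s • g) = s • φ g := by
  obtain ⟨ι, hι, hsurj⟩ := exists_hull_restrict hπ hfS hf
  let φ : (N →ₗ[R] E) →+ (N →ₗ[S] ES) := AddMonoidHom.mk' (fun g => ι ∘ₗ g.restrictScalars S) fun g h =>
    LinearMap.ext fun x => map_add ι (g x) (h x)
  refine ⟨AddEquiv.ofBijective φ ⟨(injective_iff_map_eq_zero φ).2 fun g hg => LinearMap.ext fun x =>
    hι ((LinearMap.congr_fun hg x).trans (map_zero ι).symm), fun h => ?_⟩, fun s g => LinearMap.ext fun x => ?_⟩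
  · have hmem : ∀ x, h x ∈ LinearMap.range ι := fun x => hsurj _ fun b hb => by
      rw [← map_smul, ← algebraMap_smul R b x, show algebraMap S R b = 0 from hb, zero_smul, map_zero]
    choose g hg using hmem
    refine ⟨
      { toFun := g
        map_add' := fun x y => hι (by rw [hg, map_add, map_add, hg, hg])
        map_smul' := fun r x => hι (by
          obtain ⟨s, rfl⟩ := hπ r
          rw [hg, RingHom.id_apply, algebraMap_smul, algebraMap_smul, map_smul, map_smul, hg]) },
      LinearMap.ext fun x => hg x⟩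
  · show ι (algebraMap S R s • g x) = s • ι (g x)
    rw [algebraMap_smul, map_smul]

end Groth.Agent.CanonDual
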