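import Mathlib
import Groth.Agent.CanonDual.CM
import Groth.Agent.LocH.TopDegree
import Groth.Agent.CMFlat.Localization
import Groth.Agent.CMSop.Sop
import Groth.Agent.LocH.TopTensor

/-!
Canonical modules of arbitrary Noetherian local rings: associated primes and regular elements.
-/

set_option autoImplicit false

namespace Groth.Agent.CanonDual

universe u

open CategoryTheory CategoryTheory.Limits IsLocalRing
open scoped Pointwise

variable {R : Type u} [CommRing R] [IsNoetherianRing R] [IsLocalRing R] {n : ℕ}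

/-- Surjectivity of multiplication in a top degree. -/
theorem smul_surjective_of_supportDim {b : R} {m : ℕ} (M : Type u) [AddCommGroup M] [Module R M] [Module.Finite R M]
    (hM : Module.supportDim R M < ((m + 1 : ℕ) : WithBot ℕ∞))
    (hb : Module.supportDim R (QuotSMulTop b M) < (m : WithBot ℕ∞)) (I : Ideal R) :
    Function.Surjective (fun x : LocCoh.H I m M => b • x) := by
  intro y
  let F : M →ₗ[R] ↥(LinearMap.range (LinearMap.lsmul R M b)) := (LinearMap.lsmul R M b).rangeRestrict
  let S : ShortComplex (ModuleCat.{u} R) :=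
    ShortComplex.mk (X₁ := ModuleCat.of R (LinearMap.range (LinearMap.lsmul R M b))) (X₂ := ModuleCat.of R M)
      (X₃ := ModuleCat.of R (M ⧸ LinearMap.range (LinearMap.lsmul R M b)))
      (ModuleCat.ofHom (LinearMap.range (LinearMap.lsmul R M b)).subtype)
      (ModuleCat.ofHom (LinearMap.range (LinearMap.lsmul R M b)).mkQ) (by
        ext z
        exact (Submodule.Quotient.mk_eq_zero _).2 z.2)
  have hS : S.ShortExact :=
    { exact := by
        rw [ShortComplex.moduleCat_exact_iff]
        intro v hv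
        exact ⟨⟨v, (Submodule.Quotient.mk_eq_zero _).1 hv⟩, rfl⟩
      mono_f := (ModuleCat.mono_iff_injective _).2 (LinearMap.range (LinearMap.lsmul R M b)).injective_subtype
      epi_g := (ModuleCat.epi_iff_surjective _).2 (Submodule.mkQ_surjective _) }
  have h3 : Subsingleton ↑((localCohomology I m).obj S.X₃) :=
    LocH.subsingleton_of_supportDim_lt I m _ ((Module.supportDim_le_of_surjective
      ((b • (⊤ : Submodule R M)).liftQ (LinearMap.range (LinearMap.lsmul R M b)).mkQ (by
        rintro _ ⟨z, -, rfl⟩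
        exact (Submodule.Quotient.mk_eq_zero _).2 ⟨z, rfl⟩)) (fun z => by
        obtain ⟨z', rfl⟩ := Submodule.mkQ_surjective _ z
        exact ⟨Submodule.Quotient.mk z', rfl⟩)).trans_lt hb)
  obtain ⟨y', rfl⟩ := LocH.exact₂ hS m (x := y) (h3.elim _ _)
  obtain ⟨z, rfl⟩ := LocH.map_surjective_of_surjective (I := I) F (LinearMap.surjective_rangeRestrict _) m hM y'
  refine ⟨z, (LocH.map_smul_id_apply b m z).symm.trans ?_⟩
  have e : (b • 𝟙 (ModuleCat.of R M)) = ModuleCat.ofHom F ≫ S.f := by ext v; rfl
  rw [e]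
  erw [Functor.map_comp]
  rfl

variable {E : Type u} [AddCommGroup E] [Module R E] {f : ResidueField R →ₗ[R] E} (hf : InjHull.IsInjectiveHull f)
  {K : Type u} [AddCommGroup K] [Module R K] (eK : (K →ₗ[R] E) ≃ₗ[R] LocCoh.H (maximalIdeal R) n R)
  (hn : ringKrullDim R = n)

include hf eK hn in
/-- An element off the primes of maximal coheight is regular on the canonical module. -/
theorem isSMulRegular_of_offTop {a : R} (ha : ∀ p ∈ minimalPrimes R, ringKrullDim (R ⧸ p) = n → a ∉ p) :
    IsSMulRegular K a := by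
  refine injective_of_dual hf (LinearMap.lsmul R K a) fun g => ?_
  obtain ⟨z, hz⟩ := LocH.smul_surjective_top (maximalIdeal R) hn.le ha R (eK g)
  refine ⟨eK.symm z, LinearMap.ext fun q => ?_⟩
  have : a • eK.symm z = g := eK.injective (by rw [map_smul, eK.apply_symm_apply]; exact hz)
  rw [← this]
  exact map_smul (eK.symm z) a q

omit [IsLocalRing R] [IsNoetherianRing R] in
theorem mem_minimalPrimes_top (hn : ringKrullDim R = n) {p : Ideal R} [p.IsPrime] (hp : ringKrullDim (R ⧸ p) = n) :
    p ∈ minimalPrimes R :=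
  CMFlat.mem_minimalPrimes_of_dim_le hn.le p hp.ge

include eK hn in
/-- The annihilator of the canonical module lies in every prime of maximal coheight. -/
theorem annihilator_le_top {p : Ideal R} [p.IsPrime] (hp : ringKrullDim (R ⧸ p) = n) :
    Module.annihilator R K ≤ p := by
  intro s hs
  by_contra hsp
  refine LocH.nontrivial_quotient_prime n p inferInstance hp (subsingleton_of_forall_eq 0 fun y => ?_)
  obtain ⟨z, rfl⟩ := LocH.smul_surjective_of_notMem (I := maximalIdeal R) hsp hp.le y
  obtain ⟨w, rfl⟩ := LocH.map_surjective_of_surjective (I := maximalIdeal R) (Submodule.mkQ p)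
    (Submodule.mkQ_surjective p) n ((Module.supportDim_self_eq_ringKrullDim (R := R)).le.trans hn.le |>.trans_lt
      (by exact_mod_cast Nat.lt_succ_self n)) z
  have h0 : s • eK.symm w = 0 := LinearMap.ext fun q => by
    rw [LinearMap.smul_apply, ← map_smul, Module.mem_annihilator.1 hs q, map_zero]
    rfl
  have h1 : s • w = 0 := by
    have := congrArg eK h0
    rwa [map_smul, map_zero, eK.apply_symm_apply] at this
  rw [← map_smul, h1, map_zero]

include hf eK hn in
theorem associatedPrimes_eq [Module.Finite R K] (hn0 : 0 < n) :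
    associatedPrimes R K = {p : Ideal R | p.IsPrime ∧ ringKrullDim (R ⧸ p) = n} := by
  ext p
  refine ⟨fun hp => ?_, fun ⟨hp, hpd⟩ => ?_⟩
  · haveI := hp.1
    refine ⟨hp.1, ?_⟩
    let T : Set (Ideal R) := {q | q ∈ minimalPrimes R ∧ ringKrullDim (R ⧸ q) = n}
    have hT : T.Finite := (minimalPrimes.finite_of_isNoetherianRing R).subset fun q hq => hq.1
    have hsub : (p : Set R) ⊆ ⋃ q ∈ T, (q : Set R) := by
      intro a hap
      by_contra hcon
      simp only [Set.mem_iUnion, not_exists] at hcon
      have hreg := isSMulRegular_of_offTop hf eK hn (a := a) fun q hq hqd haq => hcon q ⟨hq, hqd⟩ haq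
      have hmem : a ∈ ⋃ q ∈ associatedPrimes R K, (q : Set R) := Set.mem_iUnion₂.2 ⟨p, hp, hap⟩
      rw [biUnion_associatedPrimes_eq_zero_divisors] at hmem
      obtain ⟨x, hx0, hx⟩ := hmem
      exact hx0 (hreg.right_eq_zero_of_smul hx)
    rw [← hT.coe_toFinset] at hsub
    obtain ⟨q, hqT, hle⟩ := (Ideal.subset_union_prime (s := hT.toFinset) (f := fun q : Ideal R => q) ⊥ ⊥
      (fun i hi _ _ => ((hT.mem_toFinset).1 hi).1.1.1)).1 hsub
    rw [Set.Finite.mem_toFinset] at hqT
    obtain rfl : p = q := le_antisymm hle (hqT.1.2 ⟨hp.1, bot_le⟩ hle)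
    exact hqT.2
  · haveI := hp
    have hle := annihilator_le_top eK hn (p := p) hpd
    refine Module.associatedPrimes.minimalPrimes_annihilator_subset_associatedPrimes R K ⟨⟨hp, hle⟩, ?_⟩
    exact fun q hq hqp => (mem_minimalPrimes_top hn hpd).2 ⟨hq.1, bot_le⟩ hqp

include hf eK hn in
/-- Two elements of a system of parameters form a regular sequence on the canonical module. -/
theorem isWeaklyRegular_pair {a b : R} {m : ℕ} (hm : n = m + 1)
    (ha : ∀ p ∈ minimalPrimes R, ringKrullDim (R ⧸ p) = n → a ∉ p)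
    (h1 : ringKrullDim (R ⧸ Ideal.span {a}) ≤ m) (h2 : ringKrullDim (R ⧸ Ideal.span {a, b}) < m) :
    RingTheory.Sequence.IsWeaklyRegular K [a, b] := by
  subst hm
  rw [RingTheory.Sequence.isWeaklyRegular_cons_iff, RingTheory.Sequence.isWeaklyRegular_cons_iff]
  refine ⟨isSMulRegular_of_offTop hf eK hn ha, ?_, RingTheory.Sequence.IsWeaklyRegular.nil R _⟩
  refine injective_of_dual hf (LinearMap.lsmul R (QuotSMulTop a K) b) fun g => ?_
  let I := maximalIdeal R
  let A := LinearMap.range (LinearMap.lsmul R R a)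
  let F : R →ₗ[R] A := (LinearMap.lsmul R R a).rangeRestrict
  have hcomp : ∀ y : LocCoh.H I (m + 1) R, (localCohomology I (m + 1)).map (ModuleCat.ofHom A.subtype)
      ((localCohomology I (m + 1)).map (ModuleCat.ofHom F) y) = a • y := fun y => by
    rw [LocH.map_comp_apply', ← LocH.map_smul_id_apply a (m + 1)]
    rfl
  have hker : Subsingleton (LocCoh.H I (m + 1) (LinearMap.ker F)) := by
    refine LocH.subsingleton_of_supportDim_lt I _ _ ?_
    refine (Module.supportDim_le_of_injective (Submodule.mkQ (a • (⊤ : Submodule R (LinearMap.ker F))))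
      ((injective_iff_map_eq_zero _).2 fun z hz => ?_)).trans_lt (LocH.supportDim_quotSMulTop_lt hn.le ha _)
    obtain ⟨w, -, hw⟩ := (Submodule.Quotient.mk_eq_zero _).1 hz
    rw [← hw]
    refine Subtype.ext ?_
    show a * (w : R) = 0
    exact congrArg Subtype.val (LinearMap.mem_ker.1 w.2)
  have hFinj : Function.Injective ((localCohomology I (m + 1)).map (ModuleCat.ofHom F)) := by
    refine (injective_iff_map_eq_zero _).2 fun y hy => ?_
    obtain ⟨v, rfl⟩ := LocH.exact₂ (LocH.kerSES_shortExact (LinearMap.surjective_rangeRestrict _)) (m + 1) (x := y) hy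
    exact (congrArg _ (Subsingleton.elim (α := LocCoh.H I (m + 1) (LinearMap.ker F)) v 0)).trans (map_zero _)
  have hFsurj : Function.Surjective ((localCohomology I (m + 1)).map (ModuleCat.ofHom F)) :=
    LocH.map_surjective_of_surjective F (LinearMap.surjective_rangeRestrict _) (m + 1)
      ((Module.supportDim_self_eq_ringKrullDim (R := R)).le.trans hn.le |>.trans_lt
        (by exact_mod_cast Nat.lt_succ_self (m + 1)))
  let S : ShortComplex (ModuleCat.{u} R) :=
    ShortComplex.mk (X₁ := ModuleCat.of R A) (X₂ := ModuleCat.of R R) (X₃ := ModuleCat.of R (R ⧸ A))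
      (ModuleCat.ofHom A.subtype) (ModuleCat.ofHom A.mkQ) (by
        ext z
        exact (Submodule.Quotient.mk_eq_zero _).2 z.2)
  have hS : S.ShortExact :=
    { exact := by
        rw [ShortComplex.moduleCat_exact_iff]
        intro v hv
        exact ⟨⟨v, (Submodule.Quotient.mk_eq_zero _).1 hv⟩, rfl⟩
      mono_f := (ModuleCat.mono_iff_injective _).2 A.injective_subtype
      epi_g := (ModuleCat.epi_iff_surjective _).2 (Submodule.mkQ_surjective _) }
  have hA : Ideal.span {a} = A := le_antisymm
    (Ideal.span_le.2 (Set.singleton_subset_iff.2 ⟨1, by simp⟩))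
    (by rintro _ ⟨c, rfl⟩; exact Ideal.mul_mem_right _ _ (Ideal.mem_span_singleton_self a))
  have hbs : Function.Surjective (fun x : LocCoh.H I m (R ⧸ A) => b • x) := by
    refine smul_surjective_of_supportDim (R ⧸ A) ?_ ?_ I
    · exact (Module.supportDim_quotient_eq_ringKrullDim A).le.trans (hA ▸ h1) |>.trans_lt
        (by exact_mod_cast Nat.lt_succ_self m)
    · refine lt_of_le_of_lt ((Module.supportDim_le_of_surjective
        ((Ideal.span {a, b}).liftQ ((b • (⊤ : Submodule R (R ⧸ A))).mkQ ∘ₗ A.mkQ) ?_) ?_).trans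
          (Module.supportDim_quotient_eq_ringKrullDim (Ideal.span {a, b})).le) h2
      · refine Ideal.span_le.2 (Set.insert_subset_iff.2 ⟨?_, Set.singleton_subset_iff.2 ?_⟩)
        · show (b • (⊤ : Submodule R (R ⧸ A))).mkQ (A.mkQ a) = 0
          rw [show A.mkQ a = 0 from (Submodule.Quotient.mk_eq_zero A).2 (hA ▸ Ideal.mem_span_singleton_self a), map_zero]
        · show (b • (⊤ : Submodule R (R ⧸ A))).mkQ (A.mkQ b) = 0
          refine (Submodule.Quotient.mk_eq_zero _).2 ⟨A.mkQ 1, trivial, ?_⟩
          show b • A.mkQ 1 = _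
          rw [← map_smul, smul_eq_mul, mul_one]
      · intro z
        obtain ⟨z, rfl⟩ := Submodule.mkQ_surjective _ z
        obtain ⟨z, rfl⟩ := Submodule.mkQ_surjective _ z
        exact ⟨Submodule.Quotient.mk z, rfl⟩
  let h : LocCoh.H I (m + 1) R := eK (g ∘ₗ Submodule.mkQ _)
  have hah : a • h = 0 := by
    rw [← map_smul, show a • (g ∘ₗ Submodule.mkQ (a • (⊤ : Submodule R K))) = 0 from LinearMap.ext fun q => by
      rw [LinearMap.smul_apply, LinearMap.comp_apply, ← map_smul, ← map_smul, Submodule.mkQ_apply,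
        (Submodule.Quotient.mk_eq_zero _).2 (Submodule.smul_mem_pointwise_smul q a _ Submodule.mem_top), map_zero]
      rfl, map_zero]
  obtain ⟨w, hw⟩ := LocH.exact₁ hS m ((hcomp h).trans hah)
  obtain ⟨w', rfl⟩ := hbs w
  obtain ⟨z, hz⟩ := hFsurj (LocH.delta hS m w')
  have haz : a • z = 0 := by
    rw [← hcomp, hz]
    exact LocH.map_delta hS m w'
  have hbz : b • z = h := by
    refine hFinj ?_
    rw [map_smul, hz, ← map_smul]
    exact hw
  have hzero : a • eK.symm z = 0 := by rw [← map_smul, haz, map_zero]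
  refine ⟨(a • (⊤ : Submodule R K)).liftQ (eK.symm z) ?_, Submodule.linearMap_qext _ ?_⟩
  · rintro _ ⟨x, -, rfl⟩
    rw [LinearMap.mem_ker]
    show eK.symm z (a • x) = 0
    rw [map_smul, ← LinearMap.smul_apply, hzero]
    rfl
  · refine LinearMap.ext fun x => ?_
    rw [LinearMap.comp_apply, LinearMap.comp_apply, Submodule.mkQ_apply, LinearMap.lsmul_apply, map_smul,
      Submodule.liftQ_apply, ← LinearMap.smul_apply, ← map_smul, hbz, eK.symm_apply_apply]

end Groth.Agent.CanonDual
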