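import Mathlib
import Groth.Agent.CanonDual.Gen
import Groth.Agent.SGA2Fin.GorImage
import Groth.Agent.Cohen.Structure
import Groth.Agent.CechX.BaseChange
import Groth.Agent.AdicBasics.Dimension
import Groth.Agent.Goren.Basic

/-!
An element killing the top local cohomology vanishes at the primes of maximal coheight.
-/

set_option autoImplicit false

namespace Groth.Agent.CanonDual

universe u

open CategoryTheory CategoryTheory.Limits IsLocalRing SGA2Fin TensorProduct

section Image

variable {S R : Type u} [CommRing S] [LocCoh.IsGorensteinLocalRing S] [CommRing R] [IsNoetherianRing R]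
  [IsLocalRing R] [Algebra S R] (hπ : Function.Surjective (algebraMap S R))

include hπ in
/-- Over an image of a Gorenstein local ring, `H^{n-1}` is killed off every prime of coheight `n`. -/
theorem exists_kill_pred (N : Type u) [AddCommGroup N] [Module R N] [Module.Finite R N] (p : Ideal R) [p.IsPrime]
    {j : ℕ} (hp : ringKrullDim (R ⧸ p) = ((j + 1 : ℕ) : WithBot ℕ∞)) :
    ∃ r ∉ p, ∀ y : LocCoh.H (maximalIdeal R) j N, r • y = 0 := by
  classical
  obtain ⟨D, hD⟩ := SerreReg.exists_dim_nat S
  haveI := Goren.isGorensteinRing_of_local S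
  let Q := p.comap (algebraMap S R)
  obtain ⟨h, hh⟩ := ENat.ne_top_iff_exists.1 (Q.height_ne_top (Ideal.IsPrime.ne_top inferInstance))
  have hsum := ringKrullDim_quotient_add_height hπ p
  rw [hp, ← hh, hD] at hsum
  have hsum' : j + 1 + h = D := by
    have h2 : ((j + 1 + h : ℕ) : WithBot ℕ∞) = ((D : ℕ) : WithBot ℕ∞) := by rw [← hsum]; push_cast; rfl
    exact_mod_cast h2
  letI : Module S N := Module.compHom N (algebraMap S R)
  haveI : IsScalarTower S R N := IsScalarTower.of_compHom S R N
  haveI : Module.Finite S R := Module.Finite.of_surjective (Algebra.linearMap S R) hπ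
  haveI : Module.Finite S N := Module.Finite.trans R N
  let M : FMod S := ⟨ModuleCat.of S N, inferInstanceAs (Module.Finite S N)⟩
  let Z := LinearMap.ker (LinearMap.lcomp S S (resd M (h + 1)))
  have hex : ∀ φ ∈ Z, ∃ u ∉ Q, u • φ ∈ LinearMap.range (LinearMap.lcomp S S (resd M h)) := fun φ hφ => by
    obtain ⟨u, hu, l, hl, θ, hθ⟩ := exists_kill_cocycle_high M (x := Q) hh.symm (Nat.lt_succ_self h) φ hφ
    obtain rfl : l = h := by omega
    exact ⟨u, hu, θ, hθ⟩
  obtain ⟨s, hs⟩ := IsNoetherian.noetherian Z
  have hmem : ∀ φ : s, (φ : (res M (h + 1)).X →ₗ[S] S) ∈ Z := fun φ => hs ▸ Submodule.subset_span φ.2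
  choose w hwQ hwT using fun φ : s => hex φ.1 (hmem φ)
  let u := ∏ φ : s, w φ
  have hu : u ∉ Q := fun hu => by
    obtain ⟨φ, -, hφ⟩ := (Ideal.IsPrime.prod_mem_iff).1 hu
    exact hwQ φ hφ
  have hZ : Z ≤ (LinearMap.range (LinearMap.lcomp S S (resd M h))).comap (u • LinearMap.id) := by
    rw [← hs, Submodule.span_le]
    intro φ hφ
    obtain ⟨c, hc⟩ := Finset.dvd_prod_of_mem w (Finset.mem_univ (⟨φ, hφ⟩ : s))
    show u • φ ∈ LinearMap.range _
    rw [show u = c * w ⟨φ, hφ⟩ by rw [mul_comm]; exact hc, mul_smul]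
    exact Submodule.smul_mem _ _ (hwT ⟨φ, hφ⟩)
  have hS : ∀ y : LocCoh.H (maximalIdeal S) j N, u • y = 0 := fun y => by
    refine smul_H_eq_zero (d := D) hD M (j := j) (k := h + 1) (by omega) u (fun φ hφ => Or.inr ?_) y
    obtain ⟨θ, hθ⟩ := hZ (show φ ∈ Z from hφ)
    exact ⟨h, rfl, θ, hθ⟩
  have hex2 := LocH.exists_semilinearEquiv (R' := R) (I := maximalIdeal S) j N
  rw [LocH.map_maximalIdeal_of_surjective hπ] at hex2
  obtain ⟨φ, hφ⟩ := hex2
  exact ⟨algebraMap S R u, hu, fun y => φ.injective ((hφ u y).trans ((hS _).trans (map_zero φ).symm))⟩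

include hπ in
theorem exists_kill_notMem_of_image {n : ℕ} (hn : ringKrullDim R = n) {x : R}
    (hx : ∀ y : LocCoh.H (maximalIdeal R) n R, x • y = 0) (p : Ideal R) [p.IsPrime]
    (hp : ringKrullDim (R ⧸ p) = n) : ∃ t ∉ p, t * x = 0 := by
  by_contra hcon
  push Not at hcon
  let I := maximalIdeal R
  let A := LinearMap.range (LinearMap.lsmul R R x)
  let F : R →ₗ[R] A := (LinearMap.lsmul R R x).rangeRestrict
  have hle : LinearMap.ker F ≤ p := fun t ht => by
    by_contra htp
    exact hcon t htp (by rw [mul_comm]; exact congrArg Subtype.val (LinearMap.mem_ker.1 ht))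
  let φ : A →ₗ[R] R ⧸ p := (Submodule.mapQ (LinearMap.ker F) p LinearMap.id hle) ∘ₗ
    (F.quotKerEquivOfSurjective (LinearMap.surjective_rangeRestrict _)).symm.toLinearMap
  have hφF : φ ∘ₗ F = Submodule.mkQ p := LinearMap.ext fun t => by
    show Submodule.mapQ _ _ _ hle ((F.quotKerEquivOfSurjective _).symm (F t)) = _
    rw [show (F.quotKerEquivOfSurjective (LinearMap.surjective_rangeRestrict _)).symm (F t) = Submodule.Quotient.mk t
      from (LinearEquiv.symm_apply_eq _).2 rfl]
    rfl
  have hlt : Module.supportDim R R < ((n + 1 : ℕ) : WithBot ℕ∞) :=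
    (Module.supportDim_self_eq_ringKrullDim (R := R)).le.trans hn.le |>.trans_lt (by exact_mod_cast Nat.lt_succ_self n)
  have hφ : Function.Surjective ((localCohomology I n).map (ModuleCat.ofHom φ)) := fun y => by
    obtain ⟨v, rfl⟩ := LocH.map_surjective_of_surjective (I := I) (Submodule.mkQ p) (Submodule.mkQ_surjective p) n hlt y
    refine ⟨(localCohomology I n).map (ModuleCat.ofHom F) v, ?_⟩
    rw [LocH.map_comp_apply', ← hφF]
    rfl
  refine LocH.nontrivial_quotient_prime n p inferInstance hp (subsingleton_of_forall_eq 0 fun y => ?_)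
  have hincl : ∀ z : LocCoh.H I n A, (localCohomology I n).map (ModuleCat.ofHom A.subtype) z = 0 := fun z => by
    obtain ⟨v, rfl⟩ := LocH.map_surjective_of_surjective (I := I) F (LinearMap.surjective_rangeRestrict _) n hlt z
    rw [LocH.map_comp_apply']
    exact (LocH.map_smul_id_apply x n v).trans (hx v)
  cases n with
  | zero =>
    obtain ⟨z, rfl⟩ := hφ y
    have h0 : z = 0 := LocH.map_injective_zero I (ModuleCat.ofHom A.subtype) A.injective_subtype
      ((hincl z).trans (map_zero _).symm)
    rw [h0, map_zero]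
  | succ j =>
    let T : ShortComplex (ModuleCat.{u} R) :=
      ShortComplex.mk (X₁ := ModuleCat.of R A) (X₂ := ModuleCat.of R R) (X₃ := ModuleCat.of R (R ⧸ A))
        (ModuleCat.ofHom A.subtype) (ModuleCat.ofHom A.mkQ) (by
          ext z
          exact (Submodule.Quotient.mk_eq_zero _).2 z.2)
    have hS : T.ShortExact :=
      { exact := by
          rw [ShortComplex.moduleCat_exact_iff]
          intro v hv
          exact ⟨⟨v, (Submodule.Quotient.mk_eq_zero _).1 hv⟩, rfl⟩
        mono_f := (ModuleCat.mono_iff_injective _).2 A.injective_subtype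
        epi_g := (ModuleCat.epi_iff_surjective _).2 (Submodule.mkQ_surjective _) }
    obtain ⟨r, hr, hkill⟩ := exists_kill_pred hπ (R ⧸ A) p (j := j) hp
    obtain ⟨y', rfl⟩ := LocH.smul_surjective_of_notMem (I := I) hr hp.le y
    obtain ⟨z, rfl⟩ := hφ y'
    obtain ⟨v, rfl⟩ := LocH.exact₁ hS j (x := z) (hincl z)
    rw [← map_smul, ← map_smul]
    exact (congrArg _ ((congrArg _ (hkill v)).trans (map_zero _))).trans (map_zero _)

end Image

section General

variable {R : Type u} [CommRing R] [IsNoetherianRing R] [IsLocalRing R] {n : ℕ} (hn : ringKrullDim R = n)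

include hn in
/-- An element killing `H^n_m(R)` is killed by some element off each prime of coheight `n`. -/
theorem exists_kill_notMem {x : R} (hx : ∀ y : LocCoh.H (maximalIdeal R) n R, x • y = 0) (p : Ideal R) [p.IsPrime]
    (hp : ringKrullDim (R ⧸ p) = n) : ∃ t ∉ p, t * x = 0 := by
  by_contra hcon
  push Not at hcon
  let B := AdicCompletion (maximalIdeal R) R
  haveI : Module.FaithfullyFlat R B := Module.FaithfullyFlat.of_flat_of_isLocalHom
  have hmap : (maximalIdeal R).map (algebraMap R B) = maximalIdeal B := AdicCompletion.maximalIdeal_eq_map.symm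
  have hB : ringKrullDim B = n := (AdicBasics.ringKrullDim_completion R).trans hn
  have hxB : ∀ y : LocCoh.H (maximalIdeal B) n B, algebraMap R B x • y = 0 := by
    obtain ⟨e⟩ := CechX.nonempty_H_baseChange (R' := B) (maximalIdeal R) (ModuleCat.of R R) n
    rw [hmap] at e
    let e' := e.trans ((localCohomology (maximalIdeal B) n).mapIso
      (TensorProduct.AlgebraTensorModule.rid R B B).toModuleIso).toLinearEquiv
    intro y
    obtain ⟨w, rfl⟩ := e'.surjective y
    rw [← map_smul]
    refine (congrArg e' ?_).trans (map_zero e')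
    induction w using TensorProduct.induction_on with
    | zero => exact smul_zero _
    | tmul b z =>
      rw [TensorProduct.smul_tmul', smul_eq_mul, ← Algebra.smul_def, TensorProduct.smul_tmul,
        show x • z = 0 from hx z, TensorProduct.tmul_zero]
    | add a c ha hc => rw [smul_add, ha, hc, add_zero]
  obtain ⟨P, hP, hpP, hPd⟩ : ∃ P : Ideal B, P.IsPrime ∧ p.map (algebraMap R B) ≤ P ∧ ringKrullDim (B ⧸ P) = n := by
    let N := B ⊗[R] (R ⧸ p)
    have hne : Module.supportDim B N = n := by
      refine le_antisymm ((Module.supportDim_le_ringKrullDim B N).trans hB.le) (le_of_not_gt fun hlt => ?_)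
      have h0 := LocH.subsingleton_of_supportDim_lt (maximalIdeal B) n N hlt
      obtain ⟨e⟩ := CechX.nonempty_H_baseChange (R' := B) (maximalIdeal R) (ModuleCat.of R (R ⧸ p)) n
      rw [hmap] at e
      have h1 : Subsingleton (B ⊗[R] LocCoh.H (maximalIdeal R) n (R ⧸ p)) := @Equiv.subsingleton _ _ e.toEquiv h0
      exact LocH.nontrivial_quotient_prime n p inferInstance hp
        ((Module.FaithfullyFlat.subsingleton_tensorProduct_iff_right R B).1 h1)
    obtain ⟨q, hq, hqd⟩ := LocH.exists_prime_quotient_dim hne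
    refine ⟨q.asIdeal, q.isPrime, Ideal.map_le_iff_le_comap.2 fun a ha => ?_,
      le_antisymm ((ringKrullDim_quotient_le _).trans hB.le) hqd⟩
    refine (Module.mem_support_iff_of_finite.1 hq) (Module.mem_annihilator.2 fun w => ?_)
    induction w using TensorProduct.induction_on with
    | zero => exact smul_zero _
    | tmul b z =>
      obtain ⟨z, rfl⟩ := Ideal.Quotient.mk_surjective z
      rw [TensorProduct.smul_tmul', smul_eq_mul, ← Algebra.smul_def, TensorProduct.smul_tmul,
        show a • (Ideal.Quotient.mk p z) = 0 from Ideal.Quotient.eq_zero_iff_mem.2 (Ideal.mul_mem_right _ _ ha),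
        TensorProduct.tmul_zero]
    | add a c ha hc => rw [smul_add, ha, hc, add_zero]
  haveI := hP
  obtain ⟨Λ, _, m, g, hΛ, hg⟩ := Cohen.exists_presentation B (IsNoetherian.noetherian _)
  haveI := Cohen.isRegularLocalRing_coeff hΛ
  haveI := Cohen.isRegularLocalRing_mvPowerSeries Λ m
  haveI := Goren.isGorenstein_of_regular (MvPowerSeries (Fin m) Λ)
  letI := g.toAlgebra
  obtain ⟨t, htP, ht⟩ := exists_kill_notMem_of_image (S := MvPowerSeries (Fin m) Λ) hg hB hxB P hPd
  refine htP (hpP ?_)
  have h0 : ∑ i : Unit, (fun _ => x) i • (fun _ => t) i = 0 := by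
    simp only [Fintype.sum_unique, Algebra.smul_def]
    rw [mul_comm]
    exact ht
  obtain ⟨k, a, y, hy, ha⟩ := Module.Flat.isTrivialRelation_of_sum_smul_eq_zero h0
  rw [show t = ∑ j, a () j • y j from hy ()]
  refine Ideal.sum_mem _ fun j _ => ?_
  rw [Algebra.smul_def]
  refine Ideal.mul_mem_right _ _ (Ideal.mem_map_of_mem _ ?_)
  by_contra haj
  refine hcon _ haj ?_
  have := ha j
  simp only [Fintype.sum_unique] at this
  rw [mul_comm]
  exact this

end General

end Groth.Agent.CanonDual
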