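import Mathlib
import Groth.Agent.CanonDual.Faithful
import Groth.Agent.Catenary.Ring

/-!
The support of a canonical module: primes with `ht p + dim R/p = dim R`.
-/

set_option autoImplicit false

namespace Groth.Agent.CanonDual

universe u

open CategoryTheory CategoryTheory.Limits IsLocalRing TensorProduct

/-- A prime below `p` whose coheight is at least `ht p + dim R/p`. -/
theorem exists_le_coheight_ge {R : Type u} [CommRing R] (p : Ideal R) [hp : p.IsPrime] {h d : ℕ}
    (hh : p.height = h) (hd : ringKrullDim (R ⧸ p) = d) :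
    ∃ q : Ideal R, q.IsPrime ∧ q ≤ p ∧ ((h + d : ℕ) : WithBot ℕ∞) ≤ ringKrullDim (R ⧸ q) := by
  obtain ⟨s, hs, hsl⟩ := Order.exists_series_of_le_height (⟨p, hp⟩ : PrimeSpectrum R) (n := h)
    (by rw [← PrimeSpectrum.height_eq_orderHeight]; exact hh.ge)
  rw [ringKrullDim_quotient] at hd
  obtain ⟨t₀, ht₀⟩ := Order.le_krullDim_iff.1 hd.ge
  let t : LTSeries (PrimeSpectrum R) := t₀.map Subtype.val fun a b hab => hab
  have hle : s.last ≤ t.head := by
    rw [hs]
    exact show p ≤ _ from t₀.head.2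
  obtain ⟨c, hc, hhead⟩ : ∃ c : LTSeries (PrimeSpectrum R), h + d ≤ c.length ∧ c.head = s.head := by
    have htl : t.length = d := ht₀
    rcases eq_or_lt_of_le hle with heq | hlt
    · exact ⟨RelSeries.smash s t heq, by rw [RelSeries.smash_length, hsl, htl], RelSeries.head_smash heq⟩
    · exact ⟨RelSeries.append s t hlt, by rw [RelSeries.append_length, hsl, htl]; omega, RelSeries.head_append s t hlt⟩
  refine ⟨s.head.asIdeal, s.head.isPrime, ?_, ?_⟩
  · have h1 : s.head ≤ s.last := LTSeries.head_le_last s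
    rw [hs] at h1
    exact h1
  · rw [ringKrullDim_quotient]
    let c' : LTSeries (PrimeSpectrum.zeroLocus (s.head.asIdeal : Set R)) :=
      LTSeries.mk c.length (fun i => ⟨c i, by
        have h1 : c.head ≤ c i := LTSeries.head_le c i
        rw [hhead] at h1
        exact h1⟩) fun a b hab => c.strictMono hab
    exact le_trans (by exact_mod_cast hc) (Order.LTSeries.length_le_krullDim c')

variable {R : Type u} [CommRing R] [IsNoetherianRing R] [IsLocalRing R] {n : ℕ}

omit [IsNoetherianRing R] [IsLocalRing R] in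
theorem exists_pow_kill {Q : Ideal R} (hQ : Q ∈ minimalPrimes R) {x : R} (hx : x ∈ Q) :
    ∃ (j : ℕ) (t : R), t ∉ Q ∧ t * x ^ j = 0 := by
  have := hQ.1.1
  by_contra h
  push Not at h
  have hd : Disjoint ((⊥ : Ideal R) : Set R) ↑(Q.primeCompl ⊔ Submonoid.powers x) := by
    rw [Set.disjoint_left]
    intro y hy hy'
    obtain ⟨t, ht, z, ⟨j, rfl⟩, rfl⟩ := Submonoid.mem_sup.mp hy'
    exact h j t ht (by simpa using hy)
  obtain ⟨P, hP, -, hPd⟩ := Ideal.exists_le_prime_disjoint ⊥ _ hd
  have hle : P ≤ Q := fun y hy => by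
    by_contra hyQ
    exact Set.disjoint_left.mp hPd hy (Submonoid.mem_sup_left hyQ)
  exact Set.disjoint_left.mp hPd (hQ.2 ⟨hP, bot_le⟩ hle hx)
    (Submonoid.mem_sup_right (Submonoid.mem_powers x))

/-- An element killed off every prime of maximal coheight kills the top local cohomology. -/
theorem smul_H_top_eq_zero (hn : ringKrullDim R = n) {b : R}
    (hb : ∀ Q : Ideal R, Q.IsPrime → ringKrullDim (R ⧸ Q) = n → ∃ t ∉ Q, t * b = 0)
    (y : LocCoh.H (maximalIdeal R) n R) : b • y = 0 := by
  let u : Ideal R := Ideal.span {b}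
  have hu : Module.supportDim R u < (n : WithBot ℕ∞) := by
    refine lt_of_le_of_ne ((Module.supportDim_le_ringKrullDim R u).trans hn.le) fun heq => ?_
    obtain ⟨q, hq, hqd⟩ := LocH.exists_prime_quotient_dim heq
    refine (Module.notMem_support_iff'.2 fun x => ?_) hq
    obtain ⟨t, ht, htb⟩ := hb q.asIdeal q.isPrime (le_antisymm ((ringKrullDim_quotient_le _).trans hn.le) hqd)
    obtain ⟨c, hc⟩ := Ideal.mem_span_singleton'.1 x.2
    refine ⟨t, ht, Subtype.ext ?_⟩
    show t * (x : R) = 0
    rw [← hc, mul_left_comm, htb, mul_zero]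
  let F : ModuleCat.of R R ⟶ ModuleCat.of R u := ModuleCat.ofHom
    ((LinearMap.lsmul R R b).codRestrict u fun v => u.mul_mem_right v (Ideal.mem_span_singleton_self b))
  haveI := LocH.subsingleton_of_supportDim_lt (maximalIdeal R) n u hu
  have h0 : (localCohomology (maximalIdeal R) n).map (F ≫ ModuleCat.ofHom u.subtype) y = b • y :=
    LocH.map_smul_id_apply b n y
  rw [← h0, ← LocH.map_comp_apply']
  exact (congrArg _ (Subsingleton.elim (α := LocCoh.H (maximalIdeal R) n u) _ 0)).trans (map_zero _)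

variable {E : Type u} [AddCommGroup E] [Module R E] {f : ResidueField R →ₗ[R] E} (hf : InjHull.IsInjectiveHull f)
  {K : Type u} [AddCommGroup K] [Module R K] [Module.Finite R K]
  (eK : (K →ₗ[R] E) ≃ₗ[R] LocCoh.H (maximalIdeal R) n R)

variable {A : Type u} [CommRing A] [IsNoetherianRing A] [IsLocalRing A] [Algebra R A] [Module.FaithfullyFlat R A]
  (hmap : (maximalIdeal R).map (algebraMap R A) = maximalIdeal A)
  (happ : ∀ (b : A) (t : ℕ), ∃ r : R, b - algebraMap R A r ∈ (maximalIdeal R ^ t).map (algebraMap R A))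

omit [IsNoetherianRing A] [IsLocalRing A] [Module.FaithfullyFlat R A] in
theorem tmul_eq_zero_of_equiv {H G : Type u} [AddCommGroup H] [Module R H] [AddCommGroup G] [Module A G]
    (e : (A ⊗[R] H) ≃ₗ[A] G) {b : A} (hb : ∀ y : G, b • y = 0) (g : H) : b ⊗ₜ[R] g = 0 := by
  refine e.injective ?_
  rw [map_zero, ← mul_one b, ← smul_eq_mul, ← TensorProduct.smul_tmul', map_smul, hb]

include hf eK hmap happ in
/-- What kills the top local cohomology of the completion kills `A ⊗ K`. -/
theorem smul_tensor_eq_zero {b : A} (hb : ∀ y : LocCoh.H (maximalIdeal A) n A, b • y = 0) (k : K) :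
    b ⊗ₜ[R] k = 0 := by
  obtain ⟨e⟩ := CechX.nonempty_H_baseChange (R' := A) (maximalIdeal R) (ModuleCat.of R R) n
  rw [hmap] at e
  let e' : (A ⊗[R] LocCoh.H (maximalIdeal R) n R) ≃ₗ[A] LocCoh.H (maximalIdeal A) n A :=
    e.trans ((localCohomology (maximalIdeal A) n).mapIso
      (TensorProduct.AlgebraTensorModule.rid R A A).toModuleIso).toLinearEquiv
  have hH : ∀ g : LocCoh.H (maximalIdeal R) n R, b ⊗ₜ[R] g = 0 := tmul_eq_zero_of_equiv e' hb
  have hmem : ∀ t : ℕ, b ⊗ₜ[R] k ∈ maximalIdeal A ^ t • (⊤ : Submodule A (A ⊗[R] K)) := by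
    intro t
    obtain ⟨r, hr⟩ := happ b t
    have hkill : ∀ g : LocCoh.H (maximalIdeal R) n R, (∀ a ∈ maximalIdeal R ^ t, a • g = 0) → r • g = 0 := by
      intro g hg
      have h0 : ∀ c ∈ (maximalIdeal R ^ t).map (algebraMap R A), c ⊗ₜ[R] g = 0 := fun c hc => by
        refine Submodule.span_induction ?_ (TensorProduct.zero_tmul _ _) ?_ ?_ hc
        · rintro _ ⟨a, ha, rfl⟩
          rw [Algebra.algebraMap_eq_smul_one, TensorProduct.smul_tmul, hg a ha, TensorProduct.tmul_zero]
        · intro x y _ _ hx hy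
          rw [TensorProduct.add_tmul, hx, hy, add_zero]
        · intro s x _ hx
          rw [← TensorProduct.smul_tmul', hx, smul_zero]
      have h1 : algebraMap R A r ⊗ₜ[R] g = 0 := by
        rw [← sub_sub_cancel b (algebraMap R A r), TensorProduct.sub_tmul, hH g, h0 _ hr, sub_zero]
      rw [Algebra.algebraMap_eq_smul_one, TensorProduct.smul_tmul] at h1
      exact Module.FaithfullyFlat.tensorProduct_mk_injective (A := R) (B := A) _
        (h1.trans (map_zero (TensorProduct.mk R A _ 1)).symm)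
    have hrk : r • k ∈ maximalIdeal R ^ t • (⊤ : Submodule R K) := by
      rw [← Submodule.Quotient.mk_eq_zero]
      refine eq_zero_of_forall_dual hf _ fun G => ?_
      have h0 : r • (G ∘ₗ (maximalIdeal R ^ t • (⊤ : Submodule R K)).mkQ) = 0 := eK.injective (by
        rw [map_smul, map_zero]
        refine hkill _ fun a ha => ?_
        rw [← map_smul, show a • (G ∘ₗ (maximalIdeal R ^ t • (⊤ : Submodule R K)).mkQ) = 0 from
          LinearMap.ext fun q => by
            rw [LinearMap.smul_apply, LinearMap.comp_apply, ← map_smul, ← map_smul, Submodule.mkQ_apply,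
              (Submodule.Quotient.mk_eq_zero _).2 (Submodule.smul_mem_smul ha Submodule.mem_top), map_zero,
              LinearMap.zero_apply], map_zero])
      rw [Submodule.Quotient.mk_smul, map_smul]
      exact LinearMap.congr_fun h0 k
    rw [← sub_add_cancel b (algebraMap R A r), TensorProduct.add_tmul, ← hmap, ← Ideal.map_pow]
    refine add_mem ?_ ?_
    · rw [show (b - algebraMap R A r) ⊗ₜ[R] k = (b - algebraMap R A r) • ((1 : A) ⊗ₜ[R] k) by
        rw [TensorProduct.smul_tmul', smul_eq_mul, mul_one]]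
      exact Submodule.smul_mem_smul hr Submodule.mem_top
    · rw [Algebra.algebraMap_eq_smul_one, TensorProduct.smul_tmul]
      refine Submodule.smul_induction_on hrk (fun a ha v _ => ?_) fun v w hv hw => ?_
      · rw [TensorProduct.tmul_smul, ← algebraMap_smul A a]
        exact Submodule.smul_mem_smul (Ideal.mem_map_of_mem _ ha) Submodule.mem_top
      · rw [TensorProduct.tmul_add]
        exact add_mem hv hw
  have hK := Ideal.iInf_pow_smul_eq_bot_of_isLocalRing (M := A ⊗[R] K) (maximalIdeal A)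
    (maximalIdeal.isMaximal A).ne_top
  exact (Submodule.mem_bot A).1 (hK ▸ Submodule.mem_iInf _ |>.2 hmem)

include hf eK hmap happ in
/-- On the support of the canonical module, `ht p + dim R/p = n`, given a good catenary cover. -/
theorem height_add_dim_eq_of_cover (hn : ringKrullDim R = n) (hB : ringKrullDim A = n) (hAcat : CAlg.IsCatenary A)
    (p : Ideal R) [p.IsPrime] (hpK : Module.annihilator R K ≤ p) :
    (p.height : WithBot ℕ∞) + ringKrullDim (R ⧸ p) = n := by
  classical
  haveI : IsLocalRing (R ⧸ p) := IsLocalRing.of_surjective' _ Ideal.Quotient.mk_surjective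
  obtain ⟨d, hd⟩ := SerreReg.exists_dim_nat (R ⧸ p)
  obtain ⟨h, hh⟩ := ENat.ne_top_iff_exists.1 (p.height_ne_top (Ideal.IsPrime.ne_top inferInstance))
  have hle : h + d ≤ n := by
    obtain ⟨q, hq, -, hqd⟩ := exists_le_coheight_ge p hh.symm hd
    exact_mod_cast hqd.trans ((ringKrullDim_quotient_le q).trans hn.le)
  -- a prime over `p` of the same coheight
  have hsuppd : ∀ (a : Ideal R) (P : Ideal A) [P.IsPrime], a.map (algebraMap R A) ≤ P →
      ringKrullDim (A ⧸ P) ≤ ringKrullDim (R ⧸ a) := by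
    intro a P _ haP
    have h1 : ringKrullDim (A ⧸ P) ≤ ringKrullDim (A ⧸ a.map (algebraMap R A)) :=
      ringKrullDim_le_of_surjective (Ideal.Quotient.factor haP) (Ideal.Quotient.factor_surjective haP)
    by_cases hatop : a = ⊤
    · subst hatop
      rw [Ideal.map_top] at haP
      exact absurd (top_le_iff.1 haP) (Ideal.IsPrime.ne_top inferInstance)
    haveI : Nontrivial (R ⧸ a) := Ideal.Quotient.nontrivial_iff.2 hatop
    haveI : IsLocalRing (R ⧸ a) := IsLocalRing.of_surjective' _ Ideal.Quotient.mk_surjective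
    obtain ⟨c, hc⟩ := SerreReg.exists_dim_nat (R ⧸ a)
    by_contra hlt
    rw [not_le, hc] at hlt
    -- `H^{> c}` of `R/a` vanishes, hence of `A/aB`
    haveI : Nontrivial (A ⧸ a.map (algebraMap R A)) :=
      Ideal.Quotient.nontrivial_iff.2 fun htop => (Ideal.IsPrime.ne_top (I := P) inferInstance) (top_le_iff.1 (htop ▸ haP))
    haveI : IsLocalRing (A ⧸ a.map (algebraMap R A)) := IsLocalRing.of_surjective' _ Ideal.Quotient.mk_surjective
    obtain ⟨c', hc'⟩ := SerreReg.exists_dim_nat (A ⧸ a.map (algebraMap R A))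
    have hcc : c < c' := by exact_mod_cast hlt.trans_le (h1.trans hc'.le)
    have h0 : Subsingleton (LocCoh.H (maximalIdeal R) c' (R ⧸ a)) := LocH.subsingleton_of_supportDim_lt _ _ _ (by
      rw [Module.supportDim_quotient_eq_ringKrullDim, hc]; exact_mod_cast hcc)
    obtain ⟨e⟩ := CechX.nonempty_H_baseChange (R' := A) (maximalIdeal R) (ModuleCat.of R (R ⧸ a)) c'
    rw [hmap] at e
    have h2 : Subsingleton (A ⊗[R] LocCoh.H (maximalIdeal R) c' (R ⧸ a)) := inferInstance
    let q : (A ⊗[R] (R ⧸ a)) ≃ₗ[A] A ⧸ a.map (algebraMap R A) :=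
      { (Algebra.TensorProduct.quotIdealMapEquivTensorQuot A a).symm.toLinearEquiv with
        map_smul' := fun c x => (Algebra.TensorProduct.quotIdealMapEquivTensorQuot A a).symm.toLinearEquiv.map_smul c x }
    have h3 : Subsingleton (LocCoh.H (maximalIdeal A) c' (A ⧸ a.map (algebraMap R A))) :=
      @Equiv.subsingleton _ _ ((localCohomology (maximalIdeal A) c').mapIso q.symm.toModuleIso).toLinearEquiv.toEquiv
        (@Equiv.subsingleton _ _ e.symm.toEquiv h2)
    exact not_subsingleton_iff_nontrivial.2 (LocH.nontrivial_at_supportDim (A ⧸ a.map (algebraMap R A)) c'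
      ((Module.supportDim_quotient_eq_ringKrullDim _).trans hc')) h3
  obtain ⟨P, hP, hpP, hPd⟩ : ∃ P : Ideal A, P.IsPrime ∧ p.map (algebraMap R A) ≤ P ∧ ringKrullDim (A ⧸ P) = d := by
    let N := A ⊗[R] (R ⧸ p)
    obtain ⟨e⟩ := CechX.nonempty_H_baseChange (R' := A) (maximalIdeal R) (ModuleCat.of R (R ⧸ p)) d
    rw [hmap] at e
    have hnt : ¬ Subsingleton (LocCoh.H (maximalIdeal A) d N) := fun h0 =>
      LocH.nontrivial_quotient_prime d p inferInstance hd
        ((Module.FaithfullyFlat.subsingleton_tensorProduct_iff_right R A).1 (@Equiv.subsingleton _ _ e.toEquiv h0))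
    have hle' : (d : WithBot ℕ∞) ≤ Module.supportDim A N := le_of_not_gt fun hlt =>
      hnt (LocH.subsingleton_of_supportDim_lt (maximalIdeal A) d N hlt)
    obtain ⟨c, hc⟩ := WithBot.ne_bot_iff_exists.1 (fun hbot : Module.supportDim A N = ⊥ => by
      rw [hbot] at hle'; exact not_lt.2 hle' (WithBot.bot_lt_coe _))
    have hcle : Module.supportDim A N ≤ (n : WithBot ℕ∞) := (Module.supportDim_le_ringKrullDim A N).trans hB.le
    rw [← hc] at hcle
    obtain ⟨c', rfl⟩ := ENat.ne_top_iff_exists.1 (ne_top_of_le_ne_top (ENat.natCast_ne_top n) (WithBot.coe_le_coe.1 hcle))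
    obtain ⟨q, hq, hqd⟩ := LocH.exists_prime_quotient_dim (M := N) (d := c') hc.symm
    have hqp : p.map (algebraMap R A) ≤ q.asIdeal := Ideal.map_le_iff_le_comap.2 fun a ha =>
      (Module.mem_support_iff_of_finite.1 hq) (Module.mem_annihilator.2 fun w => by
        induction w using TensorProduct.induction_on with
        | zero => exact smul_zero _
        | tmul b z =>
          obtain ⟨z, rfl⟩ := Ideal.Quotient.mk_surjective z
          rw [TensorProduct.smul_tmul', smul_eq_mul, ← Algebra.smul_def, TensorProduct.smul_tmul,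
            show a • (Ideal.Quotient.mk p z) = 0 from Ideal.Quotient.eq_zero_iff_mem.2 (Ideal.mul_mem_right _ _ ha),
            TensorProduct.tmul_zero]
        | add a c ha hc => rw [smul_add, ha, hc, add_zero])
    refine ⟨q.asIdeal, q.isPrime, hqp, le_antisymm ((hsuppd p q.asIdeal hqp).trans hd.le) (hle'.trans ?_)⟩
    rw [← hc]
    exact hqd
  haveI := hP
  haveI hPlies : P.LiesOver p := by
    obtain ⟨P', hP'le, hP'prime, hP'lies⟩ := Ideal.exists_ideal_le_liesOver_of_le (p := p)
      (q := P.comap (algebraMap R A)) P (Ideal.map_le_iff_le_comap.1 hpP)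
    haveI := hP'prime
    have hP'p : p.map (algebraMap R A) ≤ P' := Ideal.map_le_iff_le_comap.2 (le_of_eq hP'lies.over)
    obtain rfl : P' = P := by
      rcases eq_or_lt_of_le hP'le with e | hlt
      · exact e
      exfalso
      obtain ⟨a, haP, haP'⟩ := SetLike.exists_of_lt hlt
      have h1 := (LocH.supportDim_quotient_lt (q := P') haP' (d := d) ((hsuppd p P' hP'p).trans hd.le))
      have h2 : Module.supportDim A (A ⧸ P) ≤ Module.supportDim A (QuotSMulTop a (A ⧸ P')) :=
        Order.krullDim_le_of_strictMono (fun v => ⟨v.1, by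
          rw [Module.support_quotSMulTop]
          exact ⟨LocH.mem_support_quotient_iff.2 (hP'le.trans (LocH.mem_support_quotient_iff.1 v.2)),
            fun z hz => LocH.mem_support_quotient_iff.1 v.2 (Set.mem_singleton_iff.1 hz ▸ haP)⟩⟩) fun v w hvw => hvw
      rw [Module.supportDim_quotient_eq_ringKrullDim, hPd] at h2
      exact absurd (h2.trans_lt h1) (lt_irrefl _)
    exact hP'lies
  have hhP : P.height = p.height := by
    rw [Ideal.height_eq_height_add_of_liesOver_of_hasGoingDown p P]
    have hprime : (P.map (Ideal.Quotient.mk (p.map (algebraMap R A)))).IsPrime :=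
      Ideal.map_isPrime_of_surjective Ideal.Quotient.mk_surjective (by rwa [Ideal.mk_ker])
    suffices h0 : (P.map (Ideal.Quotient.mk (p.map (algebraMap R A)))).height = 0 by rw [h0, add_zero]
    rw [Ideal.height_eq_zero_iff]
    refine ⟨⟨hprime, bot_le⟩, fun Q' hQ' hQ'le => Ideal.map_le_iff_le_comap.2 ?_⟩
    have := hQ'.1
    have h1 : Q'.comap (Ideal.Quotient.mk (p.map (algebraMap R A))) ≤ P :=
      (Ideal.comap_mono hQ'le).trans (by
        rw [Ideal.comap_map_of_surjective' _ Ideal.Quotient.mk_surjective, Ideal.mk_ker, sup_eq_left.2 hpP])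
    rcases eq_or_lt_of_le h1 with e | hlt
    · exact e.ge
    exfalso
    have hQp : p.map (algebraMap R A) ≤ Q'.comap (Ideal.Quotient.mk (p.map (algebraMap R A))) := fun z hz => by
      rw [Ideal.mem_comap, Ideal.Quotient.eq_zero_iff_mem.2 hz]
      exact zero_mem _
    obtain ⟨a, haP, haP'⟩ := SetLike.exists_of_lt hlt
    have h1' := LocH.supportDim_quotient_lt haP' (d := d) ((hsuppd p _ hQp).trans hd.le)
    have h2 : Module.supportDim A (A ⧸ P) ≤ Module.supportDim A (QuotSMulTop a (A ⧸ Q'.comap (Ideal.Quotient.mk (p.map (algebraMap R A))))) :=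
      Order.krullDim_le_of_strictMono (fun v => ⟨v.1, by
        rw [Module.support_quotSMulTop]
        exact ⟨LocH.mem_support_quotient_iff.2 (h1.trans (LocH.mem_support_quotient_iff.1 v.2)),
          fun z hz => LocH.mem_support_quotient_iff.1 v.2 (Set.mem_singleton_iff.1 hz ▸ haP)⟩⟩) fun v w hvw => hvw
    rw [Module.supportDim_quotient_eq_ringKrullDim, hPd] at h2
    exact absurd (h2.trans_lt h1') (lt_irrefl _)
  -- minimal prime over the annihilator, of coheight `n`
  let u := Module.annihilator R K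
  have huP : u.map (algebraMap R A) ≤ P := (Ideal.map_mono hpK).trans hpP
  obtain ⟨Q, hQ, hQP⟩ := Ideal.exists_minimalPrimes_le huP
  haveI := hQ.isPrime
  have hQd : ringKrullDim (A ⧸ Q) = n := by
    by_contra hne
    have hnot : ∀ Q' : Ideal A, Q'.IsPrime → ringKrullDim (A ⧸ Q') = n → ¬ Q' ≤ Q := by
      intro Q' hQ' hQ'd hle'
      haveI := hQ'
      have hq' : ringKrullDim (R ⧸ Q'.comap (algebraMap R A)) = n := by
        refine le_antisymm ((ringKrullDim_quotient_le _).trans hn.le) ?_
        rw [← hQ'd]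
        exact hsuppd _ Q' Ideal.map_comap_le
      have hu' : u.map (algebraMap R A) ≤ Q' := Ideal.map_le_iff_le_comap.2 (annihilator_le_top eK hn hq')
      exact hne ((le_antisymm hle' (hQ.2 ⟨hQ', hu'⟩ hle')) ▸ hQ'd)
    -- an element outside `Q` killed off all top primes
    obtain ⟨b, hbQ, hb⟩ : ∃ b ∉ Q, ∀ Q' : Ideal A, Q'.IsPrime → ringKrullDim (A ⧸ Q') = n → ∃ t ∉ Q', t * b = 0 := by
      have key : ∀ Q' ∈ {Q' ∈ minimalPrimes A | ringKrullDim (A ⧸ Q') = n}, ∃ b ∉ Q, ∃ t ∉ Q', t * b = 0 := by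
        rintro Q' ⟨hQ'm, hQ'd⟩
        haveI := hQ'm.1.1
        obtain ⟨a, haQ', haQ⟩ := SetLike.not_le_iff_exists.1 (hnot Q' hQ'm.1.1 hQ'd)
        obtain ⟨j, t, ht, hta⟩ := exists_pow_kill hQ'm haQ'
        exact ⟨a ^ j, fun hmem => haQ (hQ.isPrime.mem_of_pow_mem j hmem), t, ht, hta⟩
      choose bf hbf tf htf htb using key
      have hT : {Q' ∈ minimalPrimes A | ringKrullDim (A ⧸ Q') = n}.Finite :=
        (minimalPrimes.finite_of_isNoetherianRing A).subset fun Q' hQ' => hQ'.1
      haveI := hT.fintype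
      refine ⟨∏ i : {Q' ∈ minimalPrimes A | ringKrullDim (A ⧸ Q') = n}, bf i.1 i.2, fun hmem => ?_, fun Q' hQ' hQ'd => ?_⟩
      · obtain ⟨i, -, hi⟩ := (Ideal.IsPrime.prod_mem_iff).1 hmem
        exact hbf i.1 i.2 hi
      · haveI := hQ'
        have hi : Q' ∈ {Q' ∈ minimalPrimes A | ringKrullDim (A ⧸ Q') = n} := ⟨mem_minimalPrimes_top hB hQ'd, hQ'd⟩
        refine ⟨tf Q' hi, htf Q' hi, ?_⟩
        obtain ⟨c, hc⟩ := Finset.dvd_prod_of_mem (fun i : {Q' ∈ minimalPrimes A | ringKrullDim (A ⧸ Q') = n} => bf i.1 i.2)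
          (Finset.mem_univ ⟨Q', hi⟩)
        rw [hc, ← mul_assoc, htb Q' hi, zero_mul]
    have hbK : ∀ k : K, b ⊗ₜ[R] k = 0 := smul_tensor_eq_zero hf eK hmap happ (smul_H_top_eq_zero hB hb)
    obtain ⟨N', v, hv⟩ := Submodule.fg_iff_exists_fin_generating_family.1 (Module.Finite.fg_top (R := R) (M := K))
    let Φ : R →ₗ[R] (Fin N' → K) := LinearMap.pi fun i => LinearMap.toSpanSingleton R K (v i)
    have hΦ : ∀ r, r ∈ u ↔ Φ r = 0 := by
      intro r
      refine ⟨fun hr => funext fun i => Module.mem_annihilator.1 hr (v i), fun hr => Module.mem_annihilator.2 fun k => ?_⟩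
      have hk : k ∈ Submodule.span R (Set.range v) := hv ▸ Submodule.mem_top
      induction hk using Submodule.span_induction with
      | mem x hx => obtain ⟨i, rfl⟩ := hx; exact congrFun hr i
      | zero => exact smul_zero r
      | add x y _ _ hx hy => rw [smul_add, hx, hy, add_zero]
      | smul c x _ hx => rw [smul_comm, hx, smul_zero]
    let Φ' : (R ⧸ u) →ₗ[R] (Fin N' → K) := u.liftQ Φ fun r hr => (hΦ r).1 hr
    have hΦ' : Function.Injective Φ' := LinearMap.ker_eq_bot.1 (Submodule.ker_liftQ_eq_bot _ _ _ fun r hr => (hΦ r).2 hr)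
    have hz : b ⊗ₜ[R] (Ideal.Quotient.mk u 1) = 0 := by
      refine Module.Flat.lTensor_preserves_injective_linearMap (M := A) Φ' hΦ' ?_
      rw [map_zero, LinearMap.lTensor_tmul]
      apply (TensorProduct.piRight R R A fun _ : Fin N' => K).injective
      rw [map_zero]
      funext i
      rw [TensorProduct.piRight_apply, TensorProduct.piRightHom_tmul]
      show b ⊗ₜ[R] (Φ' (Submodule.Quotient.mk 1) i) = 0
      exact hbK _
    refine hbQ (hQ.1.2 ?_)
    have h5 := congrArg (TensorProduct.tensorQuotEquivQuotSMul A u) hz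
    rw [map_zero] at h5
    have h6 : (Submodule.Quotient.mk b : A ⧸ (u • ⊤ : Submodule R A)) = 0 := by
      rw [← h5]
      show _ = quotTensorEquivQuotSMul A u (Ideal.Quotient.mk u 1 ⊗ₜ[R] b)
      rw [quotTensorEquivQuotSMul_mk_tmul, one_smul]
    rw [Submodule.Quotient.mk_eq_zero, Ideal.smul_top_eq_map] at h6
    exact h6
  -- catenarity of the domain `A ⧸ Q`
  haveI : IsLocalRing (A ⧸ Q) := IsLocalRing.of_surjective' _ Ideal.Quotient.mk_surjective
  have hcat : CAlg.IsCatenary (A ⧸ Q) := Catenary.isCatenary_of_surjective (Ideal.Quotient.mk Q)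
    Ideal.Quotient.mk_surjective hAcat
  let P' := P.map (Ideal.Quotient.mk Q)
  haveI : P'.IsPrime := Ideal.map_isPrime_of_surjective Ideal.Quotient.mk_surjective (by rwa [Ideal.mk_ker])
  have hP'P : P'.comap (Ideal.Quotient.mk Q) = P := by
    rw [Ideal.comap_map_of_surjective' _ Ideal.Quotient.mk_surjective, Ideal.mk_ker, sup_eq_left.2 hQP]
  have hP'h : P'.height ≤ P.height := by
    let e := Catenary.surjectiveEmbedding (Ideal.Quotient.mk Q) Ideal.Quotient.mk_surjective
    have h1 := Order.height_le_height_apply_of_strictMono e e.strictMono ⟨P', inferInstance⟩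
    rw [← PrimeSpectrum.height_eq_orderHeight, ← PrimeSpectrum.height_eq_orderHeight,
      show e ⟨P', inferInstance⟩ = (⟨P, hP⟩ : PrimeSpectrum A) from PrimeSpectrum.ext hP'P] at h1
    exact h1
  haveI : IsLocalRing ((A ⧸ Q) ⧸ P') := IsLocalRing.of_surjective' _ Ideal.Quotient.mk_surjective
  have h7 := Catenary.height_quotient_add hcat P' (maximalIdeal (A ⧸ Q))
    (IsLocalRing.le_maximalIdeal (Ideal.IsPrime.ne_top inferInstance))
  rw [LocH.map_maximalIdeal_of_surjective (f := Ideal.Quotient.mk P') Ideal.Quotient.mk_surjective] at h7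
  have h8 := congrArg (fun x : ℕ∞ => (x : WithBot ℕ∞)) h7
  simp only [WithBot.coe_add, IsLocalRing.maximalIdeal_height_eq_ringKrullDim] at h8
  have e0 : ((A ⧸ Q) ⧸ P') ≃+* (A ⧸ P) := DoubleQuot.quotQuotEquivQuotOfLE hQP
  rw [hQd, ringKrullDim_eq_of_ringEquiv e0, hPd] at h8
  obtain ⟨h', hh'⟩ := ENat.ne_top_iff_exists.1 (ne_top_of_le_ne_top (P.height_ne_top hP.ne_top) hP'h)
  rw [hhP, ← hh, ← hh', Nat.cast_le] at hP'h
  rw [← hh'] at h8
  have h9 : d + h' = n := by exact_mod_cast h8
  rw [← hh, hd]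
  have h10 : h + d = n := by omega
  rw [← h10]
  push_cast
  rfl

omit [IsLocalRing R] in
theorem completion_approx (I : Ideal R) (b : AdicCompletion I R) (t : ℕ) :
    ∃ r : R, b - algebraMap R (AdicCompletion I R) r ∈ (I ^ t).map (algebraMap R (AdicCompletion I R)) := by
  obtain ⟨r, hr⟩ := Submodule.Quotient.mk_surjective _ (AdicCompletion.eval I R t b)
  refine ⟨r, ?_⟩
  have h2 : b - algebraMap R (AdicCompletion I R) r ∈ LinearMap.ker (AdicCompletion.eval I R t) := by
    rw [LinearMap.mem_ker, map_sub, ← hr, sub_eq_zero]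
    rfl
  rw [← AdicCompletion.pow_smul_top_eq_ker_eval (M := R) (IsNoetherian.noetherian I) (n := t)] at h2
  refine Submodule.smul_induction_on h2 (fun a ha x _ => ?_) fun x y hx hy => add_mem hx hy
  rw [Algebra.smul_def]
  exact Ideal.mul_mem_right _ _ (Ideal.mem_map_of_mem _ ha)

include hf eK in
/-- On the support of the canonical module, `ht p + dim R/p = n`. -/
theorem height_add_dim_eq (hn : ringKrullDim R = n) (p : Ideal R) [p.IsPrime] (hpK : Module.annihilator R K ≤ p) :
    (p.height : WithBot ℕ∞) + ringKrullDim (R ⧸ p) = n :=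
  haveI : Module.FaithfullyFlat R (AdicCompletion (maximalIdeal R) R) := Module.FaithfullyFlat.of_flat_of_isLocalHom
  height_add_dim_eq_of_cover hf eK (A := AdicCompletion (maximalIdeal R) R) AdicCompletion.maximalIdeal_eq_map.symm
    (completion_approx _) hn ((AdicBasics.ringKrullDim_completion R).trans hn)
    (Catenary.isCatenary_of_isUniversallyCatenary (Cohen.isUniversallyCatenary_of_complete _)) p hpK

end Groth.Agent.CanonDual
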