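import Mathlib
import Groth.Agent.LocH.WeakDuality
import Groth.Agent.LocH.TopTensor

/-!
The trace pairing `H^n(N) → Hom(Hom(N, K), E)` and when it is bijective.
-/

set_option autoImplicit false

namespace Groth.Agent.CanonDual

universe u

open CategoryTheory CategoryTheory.Limits IsLocalRing

variable {R : Type u} [CommRing R] {I : Ideal R} {n : ℕ} {K E : Type u} [AddCommGroup K] [Module R K]
  [AddCommGroup E] [Module R E] (τ : LocCoh.H I n K →ₗ[R] E)

/-- The pairing attached to a trace `τ : H^n(K) → E`. -/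
noncomputable def trPair (N : Type u) [AddCommGroup N] [Module R N] :
    LocCoh.H I n N →ₗ[R] (N →ₗ[R] K) →ₗ[R] E :=
  LinearMap.mk₂ R (fun x φ => τ ((localCohomology I n).map (ModuleCat.ofHom φ : ModuleCat.of R N ⟶ ModuleCat.of R K) x))
    (fun x y φ => (congrArg τ (map_add _ x y)).trans (map_add τ _ _))
    (fun r x φ => (congrArg τ (map_smul _ r x)).trans (map_smul τ _ _))
    (fun x φ ψ => by
      rw [show (ModuleCat.ofHom (φ + ψ) : ModuleCat.of R N ⟶ ModuleCat.of R K) = ModuleCat.ofHom φ + ModuleCat.ofHom ψ from rfl,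
        Functor.map_add]
      exact map_add τ _ _)
    (fun r x φ => by
      rw [show (ModuleCat.ofHom (r • φ) : ModuleCat.of R N ⟶ ModuleCat.of R K) = r • ModuleCat.ofHom φ from rfl,
        LocH.map_smul_apply]
      exact map_smul τ _ _)

theorem trPair_apply {N : Type u} [AddCommGroup N] [Module R N] (x : LocCoh.H I n N) (φ : N →ₗ[R] K) :
    trPair τ N x φ = τ ((localCohomology I n).map (ModuleCat.ofHom φ : ModuleCat.of R N ⟶ ModuleCat.of R K) x) :=
  rfl

theorem trPair_natural {N N' : Type u} [AddCommGroup N] [Module R N] [AddCommGroup N'] [Module R N'] (f : N →ₗ[R] N')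
    (x : LocCoh.H I n N) (φ : N' →ₗ[R] K) :
    trPair τ N' ((localCohomology I n).map (ModuleCat.ofHom f) x) φ = trPair τ N x (φ ∘ₗ f) := by
  rw [trPair_apply, trPair_apply, LocH.map_comp_apply']
  rfl

theorem bijective_trPair_pi (h : Function.Bijective (trPair τ R)) (m : ℕ) :
    Function.Bijective (trPair τ (Fin m → R)) := by
  classical
  let p : Fin m → (ModuleCat.of R (Fin m → R) ⟶ ModuleCat.of R R) := fun j => ModuleCat.ofHom (LinearMap.proj j)
  let s : Fin m → (ModuleCat.of R R ⟶ ModuleCat.of R (Fin m → R)) := fun j =>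
    ModuleCat.ofHom (LinearMap.single R (fun _ => R) j)
  have hid : 𝟙 (ModuleCat.of R (Fin m → R)) = ∑ j, p j ≫ s j := by
    refine ModuleCat.hom_ext (LinearMap.ext fun v => ?_)
    rw [ModuleCat.hom_sum, LinearMap.sum_apply]
    exact (Finset.univ_sum_single v).symm
  refine ⟨(injective_iff_map_eq_zero _).2 fun x hx => ?_, fun g => ?_⟩
  · have e := congrArg (fun φ => ((localCohomology I n).map φ).hom x) hid
    simp only [CategoryTheory.Functor.map_id, Functor.map_sum, ModuleCat.hom_sum, LinearMap.sum_apply] at e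
    refine e.trans (Finset.sum_eq_zero fun j _ => ?_)
    rw [Functor.map_comp]
    have h0 : (localCohomology I n).map (p j) x = 0 := h.1 (by
      rw [map_zero]
      refine LinearMap.ext fun φ => ?_
      rw [trPair_natural, hx]
      rfl)
    change ((localCohomology I n).map (s j)).hom ((localCohomology I n).map (p j) x) = 0
    rw [h0, map_zero]
  · choose w hw using fun j => h.2 (g ∘ₗ LinearMap.lcomp R K (LinearMap.proj j : (Fin m → R) →ₗ[R] R))
    refine ⟨∑ j, (localCohomology I n).map (s j) (w j), LinearMap.ext fun φ => ?_⟩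
    rw [map_sum, LinearMap.sum_apply]
    have hφ : φ = ∑ j, (φ ∘ₗ LinearMap.single R (fun _ => R) j) ∘ₗ (LinearMap.proj j : (Fin m → R) →ₗ[R] R) := by
      refine LinearMap.ext fun v => ?_
      rw [LinearMap.sum_apply]
      conv_lhs => rw [← Finset.univ_sum_single v, map_sum]
      rfl
    conv_rhs => rw [hφ, map_sum]
    refine Finset.sum_congr rfl fun j _ => ?_
    rw [trPair_natural, hw]
    rfl

/-- A pairing bijective on the ring is bijective on all finite modules (top degree, injective `E`). -/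
theorem bijective_trPair [IsNoetherianRing R] (hd : ringKrullDim R ≤ n) [Module.Injective R E]
    (h : Function.Bijective (trPair τ R)) (N : Type u) [AddCommGroup N] [Module R N] [Module.Finite R N] :
    Function.Bijective (trPair τ N) := by
  obtain ⟨m, π, hπ⟩ := Module.Finite.exists_fin' R N
  have hinj : Function.Injective fun φ : N →ₗ[R] K => φ ∘ₗ π := fun φ ψ h' =>
    LinearMap.ext fun v => by obtain ⟨v, rfl⟩ := hπ v; exact LinearMap.congr_fun h' v
  refine ⟨(injective_iff_map_eq_zero _).2 fun x hx => ?_, fun g => ?_⟩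
  · obtain ⟨y, rfl⟩ := LocH.map_surjective_of_surjective (I := I) π hπ n
      (((Module.supportDim_le_ringKrullDim _ _).trans hd).trans_lt (by exact_mod_cast Nat.lt_succ_self n)) x
    obtain ⟨k, π', hπ'⟩ := Module.Finite.exists_fin' R (LinearMap.ker π)
    let D : (Fin k → R) →ₗ[R] (Fin m → R) := (LinearMap.ker π).subtype ∘ₗ π'
    let Dt : ((Fin m → R) →ₗ[R] K) →ₗ[R] ((Fin k → R) →ₗ[R] K) := LinearMap.lcomp R K D
    have hg : LinearMap.ker Dt ≤ LinearMap.ker (trPair τ _ y) := fun φ hφ => by
      obtain ⟨ψ, hψ⟩ := LocH.exists_factor_of_le_ker π hπ φ fun v hv => by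
        obtain ⟨w, hw⟩ := hπ' ⟨v, hv⟩
        have := LinearMap.congr_fun (LinearMap.mem_ker.1 hφ) w
        rw [LinearMap.mem_ker]
        simpa [Dt, D, hw] using this
      rw [LinearMap.mem_ker, show φ = ψ ∘ₗ π from LinearMap.ext fun v => (hψ v).symm, ← trPair_natural]
      exact LinearMap.congr_fun hx ψ
    obtain ⟨g₁, hg₁⟩ := Module.Injective.out (R := R) ((LinearMap.ker Dt).liftQ Dt le_rfl)
      (LinearMap.ker_eq_bot.1 (Submodule.ker_liftQ_eq_bot _ _ _ le_rfl)) ((LinearMap.ker Dt).liftQ (trPair τ _ y) hg)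
    obtain ⟨z, hz⟩ := (bijective_trPair_pi τ h k).2 g₁
    have hy : y = (localCohomology I n).map (ModuleCat.ofHom D) z := by
      refine (bijective_trPair_pi τ h m).1 (LinearMap.ext fun φ => ?_)
      rw [trPair_natural, hz]
      exact (hg₁ (Submodule.Quotient.mk φ)).symm
    rw [hy, LocH.map_comp_apply', ← ModuleCat.ofHom_comp, show π ∘ₗ D = 0 from LinearMap.ext fun w => (π' w).2]
    rw [show (ModuleCat.ofHom (0 : (Fin k → R) →ₗ[R] N)) = (0 : ModuleCat.of R (Fin k → R) ⟶ ModuleCat.of R N) from rfl,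
      Functor.map_zero]
    rfl
  · obtain ⟨g', hg'⟩ := Module.Injective.out (R := R) (LinearMap.lcomp R K π) hinj g
    obtain ⟨y, hy⟩ := (bijective_trPair_pi τ h m).2 g'
    refine ⟨(localCohomology I n).map (ModuleCat.ofHom π) y, LinearMap.ext fun φ => ?_⟩
    rw [trPair_natural, hy]
    exact hg' φ

/-- A canonical module supplies a trace. -/
theorem exists_trace [IsNoetherianRing R] (hd : ringKrullDim R ≤ n) (eK : (K →ₗ[R] E) ≃ₗ[R] LocCoh.H I n R) :
    ∃ τ : LocCoh.H I n K →ₗ[R] E, Function.Bijective (trPair τ R) := by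
  let e := LinearEquiv.ofBijective (LocH.topMap I n K) (LocH.topMap_bijective I n hd K)
  let τ : LocCoh.H I n K →ₗ[R] E := (TensorProduct.lift eK.symm.toLinearMap) ∘ₗ e.symm.toLinearMap
  refine ⟨τ, ?_⟩
  have key : trPair τ R =
      (LinearMap.lcomp R E (LinearMap.ringLmapEquivSelf R R K).toLinearMap) ∘ₗ eK.symm.toLinearMap := by
    refine LinearMap.ext fun x => LinearMap.ext fun φ => ?_
    rw [trPair_apply]
    have h1 : (localCohomology I n).map (ModuleCat.ofHom φ : ModuleCat.of R R ⟶ ModuleCat.of R K) x = e (x ⊗ₜ φ 1) := by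
      rw [show φ = LinearMap.toSpanSingleton R K (φ 1) from LinearMap.ext_ring (by simp)]
      simp only [LinearMap.toSpanSingleton_apply, one_smul]
      exact (LocH.topMap_tmul I n x (φ 1)).symm
    rw [h1]
    show TensorProduct.lift eK.symm.toLinearMap (e.symm (e (x ⊗ₜ φ 1))) = _
    rw [e.symm_apply_apply, TensorProduct.lift.tmul]
    rfl
  rw [key]
  refine Function.Bijective.comp (g := LinearMap.lcomp R E (LinearMap.ringLmapEquivSelf R R K).toLinearMap)
    ⟨fun a b hab => LinearMap.ext fun k => ?_, fun g => ?_⟩ eK.symm.bijective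
  · have := LinearMap.congr_fun hab ((LinearMap.ringLmapEquivSelf R R K).symm k)
    simpa using this
  · exact ⟨g ∘ₗ (LinearMap.ringLmapEquivSelf R R K).symm.toLinearMap, LinearMap.ext fun φ => congrArg g ((LinearMap.ringLmapEquivSelf R R K).symm_apply_apply φ)⟩

end Groth.Agent.CanonDual
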