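import Mathlib
import Groth.Agent.CanonDual.Pair
import Groth.Agent.SGA2Fin.DualRes
import Groth.Agent.LocH.Killing

/-!
Dimension shifting on both sides of local duality.
-/

set_option autoImplicit false

namespace Groth.Agent.CanonDual

universe u

open CategoryTheory CategoryTheory.Limits SGA2Fin

variable {R : Type u} [CommRing R] [IsNoetherianRing R] (M : FMod R) (K : Type u) [AddCommGroup K] [Module R K]

/-- The short exact sequence of the `m`th syzygy. -/
noncomputable def syzSES (m : ℕ) : ShortComplex (ModuleCat.{u} R) :=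
  ShortComplex.mk (ModuleCat.ofHom (resι M m)) (ModuleCat.ofHom (resπ M m))
    (ModuleCat.hom_ext (LinearMap.ext fun v => (exact_resι_resπ M m).apply_apply_eq_zero v))

theorem syzSES_shortExact (m : ℕ) : (syzSES M m).ShortExact :=
  { exact := (ShortComplex.ShortExact.moduleCat_exact_iff_function_exact (syzSES M m)).2 (exact_resι_resπ M m)
    mono_f := (ModuleCat.mono_iff_injective _).2 (resι_injective M m)
    epi_g := (ModuleCat.epi_iff_surjective _).2 (resπ_surjective M m) }

/-- `Ext^{l+1}(M, K)` as a cokernel. -/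
abbrev cok (l : ℕ) : Type u := ((syz M (l + 1)).X →ₗ[R] K) ⧸ LinearMap.range (LinearMap.lcomp R K (resι M l))

section ExtSide

open Abelian

instance projective_syzSES (m : ℕ) : Projective (syzSES M m).X₂ :=
  (IsProjective.iff_projective _).1 (inferInstanceAs (Module.Projective R (res M m).X))

theorem nonempty_ext_one_equiv (m : ℕ) :
    Nonempty (Ext (syz M m).X (ModuleCat.of R K) 1 ≃ₗ[R] cok M K m) := by
  have hS := syzSES_shortExact M m
  let Φ : ((syz M (m + 1)).X →ₗ[R] K) →ₗ[R] Ext (syz M m).X (ModuleCat.of R K) 1 :=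
    { toFun := fun f => hS.extClass.comp (Ext.mk₀ (ModuleCat.ofHom f : (syz M (m + 1)).X ⟶ ModuleCat.of R K)) rfl
      map_add' := fun f g => (congrArg (fun z => hS.extClass.comp z rfl) (Ext.mk₀_add
        (ModuleCat.ofHom f : (syz M (m + 1)).X ⟶ ModuleCat.of R K) (ModuleCat.ofHom g))).trans (Ext.comp_add _ _ _ _)
      map_smul' := fun r f => (congrArg (fun z => hS.extClass.comp z rfl) (Ext.mk₀_smul r
        (ModuleCat.ofHom f : (syz M (m + 1)).X ⟶ ModuleCat.of R K))).trans (Ext.comp_smul _ _ _ _) }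
  have hker : LinearMap.ker Φ = LinearMap.range (LinearMap.lcomp R K (resι M m)) := by
    ext f
    refine ⟨fun hf => ?_, ?_⟩
    · obtain ⟨x, hx⟩ := Ext.contravariant_sequence_exact₁ hS (ModuleCat.of R K)
        (Ext.mk₀ (ModuleCat.ofHom f : (syz M (m + 1)).X ⟶ ModuleCat.of R K)) rfl hf
      obtain ⟨g, rfl⟩ := Ext.addEquiv₀.symm.surjective x
      simp only [Ext.addEquiv₀_symm_apply] at hx
      rw [Ext.mk₀_comp_mk₀] at hx
      exact ⟨g.hom, congrArg ModuleCat.Hom.hom ((Ext.mk₀_bijective _ _).1 hx)⟩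
    · rintro ⟨g, rfl⟩
      show hS.extClass.comp (Ext.mk₀ ((syzSES M m).f ≫ (ModuleCat.ofHom g : (res M m).X ⟶ ModuleCat.of R K))) rfl = 0
      rw [← Ext.mk₀_comp_mk₀]
      exact hS.extClass_comp_assoc _
  have hsurj : Function.Surjective Φ := fun x => by
    obtain ⟨y, hy⟩ := Ext.contravariant_sequence_exact₃ hS (ModuleCat.of R K) x
      ((Ext.subsingleton_of_projective (P := (syzSES M m).X₂) (ModuleCat.of R K) 0).elim _ _) (n₀ := 0) rfl
    obtain ⟨g, rfl⟩ := Ext.addEquiv₀.symm.surjective y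
    exact ⟨g.hom, hy⟩
  exact ⟨((Submodule.quotEquivOfEq _ _ hker.symm).trans (Φ.quotKerEquivOfSurjective hsurj)).symm⟩

theorem nonempty_ext_succ_equiv (m q : ℕ) :
    Nonempty (Ext (syz M (m + 1)).X (ModuleCat.of R K) (q + 1) ≃ₗ[R] Ext (syz M m).X (ModuleCat.of R K) (q + 2)) := by
  have hS := syzSES_shortExact M m
  let Φ : Ext (syz M (m + 1)).X (ModuleCat.of R K) (q + 1) →ₗ[R] Ext (syz M m).X (ModuleCat.of R K) (q + 2) :=
    { toFun := fun x => hS.extClass.comp x (by omega)
      map_add' := fun x y => Ext.comp_add _ _ _ _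
      map_smul' := fun r x => Ext.comp_smul _ _ _ _ }
  refine ⟨LinearEquiv.ofBijective Φ ⟨(injective_iff_map_eq_zero Φ).2 fun x hx => ?_, fun x => ?_⟩⟩
  · obtain ⟨y, hy⟩ := Ext.contravariant_sequence_exact₁ hS (ModuleCat.of R K) x (show 1 + (q + 1) = q + 2 by omega) hx
    rw [← hy, (Ext.subsingleton_of_projective (P := (syzSES M m).X₂) (ModuleCat.of R K) q).elim y 0, Ext.comp_zero]
    rfl
  · exact Ext.contravariant_sequence_exact₃ hS (ModuleCat.of R K) x
      ((Ext.subsingleton_of_projective (P := (syzSES M m).X₂) (ModuleCat.of R K) (q + 1)).elim _ _) (by omega)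

theorem nonempty_ext_equiv : ∀ (l m k : ℕ), m + l = k →
    Nonempty (Ext (syz M m).X (ModuleCat.of R K) (l + 1) ≃ₗ[R] cok M K k)
  | 0, m, k, h => by
    obtain rfl : m = k := h
    exact nonempty_ext_one_equiv M K m
  | l + 1, m, k, h => by
    obtain ⟨e⟩ := nonempty_ext_succ_equiv M K m l
    obtain ⟨e'⟩ := nonempty_ext_equiv l (m + 1) k (by omega)
    exact ⟨e.symm.trans e'⟩

end ExtSide

section HSide

variable [IsLocalRing R] {I : Ideal R} {n : ℕ} (hfree : ∀ i, i < n → Subsingleton (LocCoh.H I i R))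
  {E : Type u} [AddCommGroup E] [Module R E] (τ : LocCoh.H I n K →ₗ[R] E)

include hfree in
theorem subsingleton_res_H (m i : ℕ) (hi : i < n) :
    Subsingleton ↑((localCohomology I i).obj (syzSES M m).X₂) := by
  have : Module.Free R (res M m).X := Module.free_of_flat_of_isLocalRing
  let e : (res M m).X ≃ₗ[R] (Fin (Fintype.card (Module.Free.ChooseBasisIndex R (res M m).X)) → R) :=
    (Module.Free.chooseBasis R (res M m).X).equivFun.trans (LinearEquiv.funCongrLeft R R (Fintype.equivFin _).symm)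
  refine (LocH.subsingleton_iff_of_iso I i (X := (syzSES M m).X₂) e.toModuleIso).2 (subsingleton_of_forall_eq 0 fun x => ?_)
  have := hfree i hi
  exact (one_smul R x).symm.trans (LocH.H_pi_killed I i _ 1 (fun y => Subsingleton.elim _ _) x)

include hfree in
theorem nonempty_H_shift (j : ℕ) : ∀ m, j + m < n →
    Nonempty (LocCoh.H I j M.X ≃ₗ[R] LocCoh.H I (j + m) (syz M m).X)
  | 0, _ => ⟨LinearEquiv.refl R _⟩
  | m + 1, hm => by
    obtain ⟨e⟩ := nonempty_H_shift j m (by omega)
    have hS := syzSES_shortExact M m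
    have h1 : Function.Bijective (LocH.delta hS (j + m) (I := I)) := by
      refine ⟨(injective_iff_map_eq_zero _).2 fun w hw => ?_, fun w => ?_⟩
      · obtain ⟨v, rfl⟩ := LocH.exact₃ hS (j + m) hw
        rw [(subsingleton_res_H M hfree m (j + m) (by omega)).elim v 0, map_zero]
      · exact LocH.exact₁ hS (j + m) ((subsingleton_res_H M hfree m (j + m + 1) hm).elim _ _)
    exact ⟨e.trans (LinearEquiv.ofBijective _ h1)⟩

include hfree in
/-- `H^{n-(l+1)}(M) ≅ Hom(Ext^{l+1}(M, K), E)`. -/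
theorem nonempty_H_equiv (hbij : ∀ (N : Type u) [AddCommGroup N] [Module R N] [Module.Finite R N],
      Function.Bijective (trPair τ N)) {j l : ℕ} (hj : j + (l + 1) = n) :
    Nonempty (LocCoh.H I j M.X ≃ₗ[R] (cok M K l →ₗ[R] E)) := by
  subst hj
  obtain ⟨e⟩ := nonempty_H_shift M hfree j l (by omega)
  have hS := syzSES_shortExact M l
  let T := LinearMap.lcomp R K (resι M l)
  let Φ : LocCoh.H I (j + l) (syz M l).X →ₗ[R] ((syz M (l + 1)).X →ₗ[R] K) →ₗ[R] E :=
    (trPair τ (syz M (l + 1)).X) ∘ₗ LocH.delta hS (j + l) (I := I)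
  have hΦ : ∀ z, LinearMap.range T ≤ LinearMap.ker (Φ z) := by
    rintro z _ ⟨θ, rfl⟩
    rw [LinearMap.mem_ker]
    refine (trPair_natural τ (resι M l) _ θ).symm.trans ?_
    exact (congrArg (fun w => trPair τ (res M l).X w θ) (LocH.map_delta hS (j + l) z)).trans
      ((LinearMap.congr_fun (map_zero (trPair τ (res M l).X)) θ).trans rfl)
  let Ψ : LocCoh.H I (j + l) (syz M l).X →ₗ[R] (cok M K l →ₗ[R] E) :=
    { toFun := fun z => (LinearMap.range T).liftQ (Φ z) (hΦ z)
      map_add' := fun a b => Submodule.linearMap_qext _ (LinearMap.ext fun ψ => by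
        simp only [LinearMap.comp_apply, Submodule.mkQ_apply, Submodule.liftQ_apply, map_add, LinearMap.add_apply])
      map_smul' := fun c a => Submodule.linearMap_qext _ (LinearMap.ext fun ψ => by
        simp only [LinearMap.comp_apply, Submodule.mkQ_apply, Submodule.liftQ_apply, map_smul, LinearMap.smul_apply,
          RingHom.id_apply]) }
  refine ⟨e.trans (LinearEquiv.ofBijective Ψ ⟨(injective_iff_map_eq_zero Ψ).2 fun z hz => ?_, fun g => ?_⟩)⟩
  · have h1 : Φ z = 0 := LinearMap.ext fun ψ => LinearMap.congr_fun hz (Submodule.Quotient.mk ψ)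
    have h2 : LocH.delta hS (j + l) z = 0 := (hbij (syz M (l + 1)).X).1 (h1.trans (map_zero _).symm)
    obtain ⟨v, rfl⟩ := LocH.exact₃ hS (j + l) h2
    rw [(subsingleton_res_H M hfree l (j + l) (Nat.lt_succ_self _)).elim v 0, map_zero]
    rfl
  · obtain ⟨w, hw⟩ := (hbij (syz M (l + 1)).X).2 (g ∘ₗ (LinearMap.range T).mkQ)
    have h0 : (localCohomology I (j + l + 1)).map (syzSES M l).f w = 0 := by
      refine (hbij (res M l).X).1 (LinearMap.ext fun θ => ?_)
      refine (trPair_natural τ (resι M l) w θ).trans ?_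
      refine ((LinearMap.congr_fun hw _).trans ?_).trans (LinearMap.congr_fun (map_zero (trPair τ (res M l).X)) θ).symm
      rw [LinearMap.comp_apply, Submodule.mkQ_apply,
        (Submodule.Quotient.mk_eq_zero _).2 (show θ ∘ₗ resι M l ∈ LinearMap.range T from ⟨θ, rfl⟩), map_zero]
      rfl
    obtain ⟨z, hz⟩ := LocH.exact₁ hS (j + l) h0
    refine ⟨z, Submodule.linearMap_qext _ ?_⟩
    rw [← hw, ← hz]
    rfl

end HSide

end Groth.Agent.CanonDual
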