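import Mathlib
import Groth.Prelude.Def_CAlg
import Groth.Agent.CanonDual.Change
import Groth.Agent.CanonDual.Shift
import Groth.Agent.ExtCompare.Basic
import Groth.Agent.S7699
import Groth.Agent.LocH.TopSocle
import Groth.Agent.InjHull.Basic
import Groth.Agent.Goren.Basic

/-!
Canonical modules of images of Gorenstein local rings.
-/

set_option autoImplicit false

namespace Groth.Agent.CanonDual

universe u

open CategoryTheory Opposite IsLocalRing

theorem finite_ext {S : Type u} [CommRing S] [IsNoetherianRing S] (M K : Type u) [AddCommGroup M] [Module S M]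
    [Module.Finite S M] [AddCommGroup K] [Module S K] [Module.Finite S K] (i : ℕ) :
    Module.Finite S (((Ext S (ModuleCat.{u} S) i).obj (op (ModuleCat.of S M))).obj (ModuleCat.of S K)) := by
  let e := ExtCompare.extEquiv S (ModuleCat.of S M) (ModuleCat.of S K)
  cases i with
  | zero => exact Module.Finite.equiv ((e 0).trans (Abelian.Ext.linearEquiv₀.trans ModuleCat.homLinearEquiv)).symm
  | succ l =>
    let M' : SGA2Fin.FMod S := ⟨ModuleCat.of S M, inferInstanceAs (Module.Finite S M)⟩
    obtain ⟨b⟩ := nonempty_ext_equiv M' K l 0 l (zero_add l)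
    exact Module.Finite.equiv ((e (l + 1)).trans b).symm

variable {S R : Type u} [CommRing S] [IsLocalRing S] [IsNoetherianRing S] [CommRing R] [IsLocalRing R]
  [IsNoetherianRing R] [Algebra S R] (hπ : Function.Surjective (algebraMap S R))
  {ES : Type u} [AddCommGroup ES] [Module S ES] {fS : ResidueField S →ₗ[S] ES} (hfS : InjHull.IsInjectiveHull fS)
  {E : Type u} [AddCommGroup E] [Module R E] {f : ResidueField R →ₗ[R] E} (hf : InjHull.IsInjectiveHull f)

include hπ hfS hf in
/-- An `S`-module representing the dual of `H^n(R)` gives a canonical module over the quotient. -/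
theorem exists_canon_of_rep (n : ℕ) (C : Type u) [AddCommGroup C] [Module S C] [Module.Finite S C]
    (eC : (C →ₗ[S] ES) ≃ₗ[S] LocCoh.H (maximalIdeal S) n R) :
    ∃ K : ModuleCat.{u} R, Module.Finite R K ∧ (∃ e : ↑K ≃+ C, ∀ (s : S) x, e (algebraMap S R s • x) = s • e x) ∧
      Nonempty ((K →ₗ[R] E) ≃ₗ[R] LocCoh.H (maximalIdeal R) n R) := by
  classical
  have hex := LocH.exists_semilinearEquiv (R' := R) (I := maximalIdeal S) n R
  rw [LocH.map_maximalIdeal_of_surjective hπ] at hex
  obtain ⟨φ, hφ⟩ := hex
  have hkill : ∀ b ∈ RingHom.ker (algebraMap S R), ∀ c : C, b • c = 0 := by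
    intro b hb c
    refine eq_zero_of_forall_dual hfS _ fun g => ?_
    have h0 : b • g = 0 := eC.injective (by
      rw [map_smul, map_zero, ← φ.apply_symm_apply (eC g)]
      refine (hφ b _).symm.trans ?_
      rw [show algebraMap S R b = 0 from hb, zero_smul, map_zero])
    rw [map_smul]
    exact LinearMap.congr_fun h0 c
  let ρ : R →+* AddMonoid.End C := RingHom.liftOfSurjective (algebraMap S R) hπ
    ⟨Module.toAddMonoidEnd S C, fun b hb => AddMonoidHom.ext fun c => hkill b hb c⟩
  letI : Module R C := Module.compHom C ρ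
  have hsmul : ∀ (s : S) (c : C), algebraMap S R s • c = s • c := fun s c =>
    DFunLike.congr_fun (RingHom.liftOfRightInverse_comp_apply (algebraMap S R) _
      (Function.rightInverse_surjInv hπ) ⟨Module.toAddMonoidEnd S C,
        fun b hb => AddMonoidHom.ext fun c => hkill b hb c⟩ s) c
  haveI : IsScalarTower S R C := ⟨fun s r c => by
    obtain ⟨s', rfl⟩ := hπ r
    rw [Algebra.smul_def, ← map_mul, hsmul, hsmul, mul_smul]⟩
  haveI : Module.Finite R C := Module.Finite.of_restrictScalars_finite S R C
  refine ⟨ModuleCat.of R C, inferInstanceAs (Module.Finite R C), ⟨AddEquiv.refl C, hsmul⟩, ?_⟩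
  letI : Module S E := Module.compHom E (algebraMap S R)
  haveI : IsScalarTower S R E := IsScalarTower.of_compHom S R E
  obtain ⟨ψ, hψ⟩ := exists_semilinear_dual hπ hfS hf C
  exact ⟨{ (ψ.trans (eC.toAddEquiv.trans φ.symm)) with
    map_smul' := fun r g => by
      obtain ⟨s, rfl⟩ := hπ r
      apply φ.injective
      rw [RingHom.id_apply, hφ]
      show φ (φ.symm (eC (ψ (algebraMap S R s • g)))) = s • φ (φ.symm (eC (ψ g)))
      rw [φ.apply_symm_apply, φ.apply_symm_apply, hψ, map_smul] }⟩

include hπ hf in
/-- An image of a Gorenstein local ring has a canonical module, namely `Ext^{D-n}_S(R, S)`. -/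
theorem exists_canon (S' : LocCoh.IsGorensteinLocalRing S) {D n : ℕ} (hD : ringKrullDim S = D)
    (hn : ringKrullDim R = n) :
    ∃ K : ModuleCat.{u} R, Module.Finite R K ∧
      (∃ e : ↑K ≃+ ↑(((Ext S (ModuleCat.{u} S) (D - n)).obj (op (ModuleCat.of S R))).obj (ModuleCat.of S S)),
        ∀ (s : S) x, e (algebraMap S R s • x) = s • e x) ∧
      Nonempty ((K →ₗ[R] E) ≃ₗ[R] LocCoh.H (maximalIdeal R) n R) := by
  haveI := Goren.isCohenMacaulay S
  obtain ⟨g, hg⟩ := LocH.WeakDuality.isInjectiveHull_top hD
  have hle : n ≤ D := by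
    have := ringKrullDim_le_of_surjective (algebraMap S R) hπ
    rw [hn, hD] at this
    exact_mod_cast this
  haveI : Module.Finite S R := Module.Finite.of_surjective (Algebra.linearMap S R) hπ
  obtain ⟨a⟩ := S7699.result S D hD _ g hg S (LinearMap.ringLmapEquivSelf S S _) R (D - n) (by omega)
  rw [show D - (D - n) = n by omega] at a
  haveI := finite_ext R S (S := S) (D - n)
  exact exists_canon_of_rep hπ hg hf n _ a.symm

end Groth.Agent.CanonDual
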